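import Cfsg.Agent.Lib.Forms.Max.TensorWreath.SympPlus.Moves

/-!
# A pattern in two slots gives a root element with pure line
-/

set_option autoImplicit false
set_option linter.unusedSectionVars false

namespace Cfsg.Agent.TensorWreath.Op

open Matrix Cfsg.Agent.Aschbacher Cfsg.Agent.Forms.Max Cfsg.Agent.Forms.Max.SympTools Cfsg.Agent.TensorWreath.Sy

variable {F : Type*} [Field F] [Fintype F] {k t : ℕ} {J : Matrix (Fin k) (Fin k) F} {a b : Fin k}
variable {Q : QuadraticForm F ((Fin t → Fin k) → F)} {G : Subgroup (GL (Fin t → Fin k) F)}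

/-- a pattern in the group, with at least two active slots -/
structure Act (J : Matrix (Fin k) (Fin k) F) (a b : Fin k) (f : Fin k → F) (G : Subgroup (GL (Fin t → Fin k) F))
    (T : Fin t → Fin 3) : Prop where
  has : ∃ c : F, c ≠ 0 ∧ Mem G (c • pat J a b f T)
  ne : ∀ i, T i = 2 → f ≠ 0
  two : ∃ i j, i ≠ j ∧ T i ≠ 0 ∧ T j ≠ 0

variable (hd : Hyp J a b) {f : Fin k → F} (hf : Mv a b f)

/-- the second vector of the root element -/
noncomputable def sv (b : Fin k) (f : Fin k → F) : Fin k → F := if 4 ≤ k then f else Pi.single b 1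

/-- the root element with its second vector in slot `j` -/
noncomputable def rootMat (J : Matrix (Fin k) (Fin k) F) (a b : Fin k) (f : Fin k → F) (j : Fin t) :
    Matrix (Fin t → Fin k) (Fin t → Fin k) F :=
  pureTensor (Function.update (fun _ => Matrix.single a b 1) j (Qm J (Pi.single a 1) (sv b f)))

theorem single_apply_ne (x y : Fin k) (h : x ≠ y) : Matrix.single x x (1 : F) y y = 0 := by simp [h]

include hd

/-- the adjoint of a slot value -/
theorem sm_adj (g : Fin k → F) (s : Fin 3) :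
    (sm J a b g s)ᵀ * J = (if s = 1 then (-1 : F) else 1) • (J * sm J a b g s) := by
  have hJ : ∀ p q, J p q = -J q p := fun p q => by
    have h : ∀ p q, frm J (Pi.single p 1) (Pi.single q 1) = J p q := fun p q => by simp [frm, mulVec_single_one]
    rw [← h p q, hd.sp.skew, h]
  have hv : ∀ x y : Fin k → F, (vecMulVec x (phi J y))ᵀ * J = -vecMulVec (phi J y) (phi J x) ∧
      J * vecMulVec x (phi J y) = vecMulVec (phi J x) (phi J y) := fun x y => by
    refine ⟨?_, mul_vecMulVec ..⟩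
    rw [transpose_vecMulVec, vecMulVec_mul, ← vecMulVec_neg]
    congr 1
    funext q
    simp only [vecMul, dotProduct, Pi.neg_apply, phi, mulVec, ← Finset.sum_neg_distrib]
    exact Finset.sum_congr rfl fun p _ => by rw [hJ p q]; ring
  fin_cases s
  · show (1 : Matrix (Fin k) (Fin k) F)ᵀ * J = (if (0 : Fin 3) = 1 then (-1 : F) else 1) • (J * 1)
    rw [if_neg (by decide), one_smul, transpose_one, one_mul, mul_one]
  · show (Matrix.single a b (1 : F))ᵀ * J = (if (1 : Fin 3) = 1 then (-1 : F) else 1) • (J * Matrix.single a b 1)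
    obtain ⟨h1, h2⟩ := hv (Pi.single a 1) (Pi.single a 1)
    rw [← Nm, Nm_a hd, transpose_neg, neg_mul, neg_inj] at h1
    rw [← Nm, Nm_a hd, mul_neg, neg_eq_iff_eq_neg] at h2
    rw [if_pos rfl, neg_one_smul, h1, h2, neg_neg]
  · show (Qm J (Pi.single a 1) g)ᵀ * J = (if (2 : Fin 3) = 1 then (-1 : F) else 1) • (J * Qm J (Pi.single a 1) g)
    rw [if_neg (by decide), one_smul, Qm, transpose_sub, sub_mul, mul_sub, (hv _ _).1, (hv _ _).1, (hv _ _).2,
      (hv _ _).2]
    abel

/-- an orthogonal middle vector off the line -/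
theorem exists_orth_mid (h5 : 5 ≤ k) (u : Fin k → F) :
    ∃ g ∈ mid F a b, frm J g u = 0 ∧ g ∉ Submodule.span F {u} := by
  let L : (Fin k → F) →ₗ[F] F × F × F :=
    (LinearMap.proj a : (Fin k → F) →ₗ[F] F).prod ((LinearMap.proj b : (Fin k → F) →ₗ[F] F).prod (form hd.sp u))
  have hker : 2 ≤ Module.finrank F (LinearMap.ker L) := by
    have h1 := LinearMap.finrank_range_add_finrank_ker L
    have h2 := Submodule.finrank_le (LinearMap.range L)
    rw [Module.finrank_prod, Module.finrank_prod, Module.finrank_self] at h2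
    rw [Module.finrank_fintype_fun_eq_card, Fintype.card_fin] at h1
    omega
  by_contra hc
  push Not at hc
  have h := (Submodule.finrank_mono (fun g hg => ?_ : LinearMap.ker L ≤ Submodule.span F {u})).trans
    (finrank_span_le_card ({u} : Set (Fin k → F)))
  · simp only [Set.toFinset_singleton, Finset.card_singleton] at h
    omega
  · have h1 : g a = 0 ∧ g b = 0 ∧ frm J g u = 0 := by simpa [L, form_apply] using hg
    exact hc g (mem_mid.2 ⟨h1.1, h1.2.1⟩) h1.2.2

theorem k2_cases (h4 : ¬ 4 ≤ k) (p : Fin k) : p = a ∨ p = b := by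
  have h2 := hd.hk.resolve_right h4
  subst h2; have := hd.hab; fin_cases p <;> fin_cases a <;> fin_cases b <;> simp_all

theorem Qm_ab (h4 : ¬ 4 ≤ k) : Qm J (Pi.single a 1) (Pi.single b 1) = 1 := by
  refine Matrix.ext_iff_mulVec.2 fun v => funext fun p => ?_
  rw [Qm_mulVec hd, one_mulVec, frm_a hd, frm_b hd]
  rcases k2_cases hd h4 p with rfl | rfl <;> simp [hd.hab, hd.hab.symm]

include hf

theorem Act.scale (hG : Over J Q G) {T : Fin t → Fin 3} (h : Act J a b f G T) (r : F) :
    Mem G (r • pat J a b f T) := by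
  obtain ⟨c, hc, hm⟩ := h.has
  obtain ⟨i, -, -, hi, -⟩ := h.two
  exact mem_scale hd hf hG (d := i) hi rfl hc hm r

/-- not all slots are roots -/
theorem Act.exists_non_root (hG : Over J Q G) {T : Fin t → Fin 3} (h : Act J a b f G T) : ∃ i, T i ≠ 1 := by
  by_contra hc
  push Not at hc
  obtain ⟨c, hc0, g, hg, hgv⟩ := h.has
  set u : (Fin t → Fin k) → F := pvec fun _ => Pi.single a 1
  set x : (Fin t → Fin k) → F := pvec fun _ => Pi.single b 1
  have hx : g.val *ᵥ x = x + c • u := by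
    rw [hgv, add_mulVec, one_mulVec, smul_mulVec, pat, pure_mulVec_pvec]
    congr 2
    refine congrArg pvec (funext fun i => funext fun p => ?_)
    rw [hc i, show sm J a b f 1 = Matrix.single a b (1 : F) from rfl, mulVec_single_one]
    simp [Matrix.col_apply, Matrix.single_apply, Pi.single_apply, eq_comm]
  have h1 := hG.map hg x
  rw [hx, Classical.Orth.map_add', Classical.Orth.map_smul', hG.quad.pure, hG.quad.pure,
    QuadraticMap.polar_smul_right, pol_pvec hG.quad, frm_ba hd, Finset.prod_const, smul_eq_mul] at h1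
  simp [hc0] at h1

/-- an odd number of roots in odd characteristic -/
theorem Act.odd (hG : Over J Q G) (h2 : (2 : F) ≠ 0) {T : Fin t → Fin 3} (h : Act J a b f G T) :
    Odd (Finset.univ.filter fun i => T i = 1).card := by
  classical
  obtain ⟨c, hc, g, hg, hgv⟩ := h.has
  obtain ⟨d, -, -, hd0, -⟩ := h.two
  set X := pureTensor fun i => sm J a b f (T i) with hX
  set Gr := Sy.gram t J
  set σ : F := (-1) ^ (Finset.univ.filter fun i => T i = 1).card
  have hXG : Xᵀ * Gr = σ • (Gr * X) := by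
    simp only [hX, Gr, Sy.gram]
    rw [pure_transpose, ← map_mul, ← map_mul]
    have e : ((fun i => (sm J a b f (T i))ᵀ) * fun _ => J) =
        fun i => (if T i = 1 then (-1 : F) else 1) • (J * sm J a b f (T i)) := funext fun i => sm_adj hd f (T i)
    rw [e, pure_smul_slot]
    congr 1
    rw [Finset.prod_ite, Finset.prod_const, Finset.prod_const_one, mul_one]
  have hXX : X * X = 0 := pure_mul_zero (d := d) (sm_sq hd hf hd0)
  have hiso := mem_Iso.1 (hG.iso hg)
  rw [hgv, pat, ← hX, transpose_add, transpose_one, transpose_smul, add_mul, one_mul, add_mul, mul_add, mul_one,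
    mul_add, mul_one, mul_smul_comm, smul_mul_assoc, hXG, smul_mul_assoc, mul_smul_comm, smul_mul_assoc, mul_assoc, hXX,
    mul_zero, smul_zero, smul_zero, smul_zero, add_zero] at hiso
  have h0 : (c * (1 + σ)) • (Gr * X) = 0 := by
    have h1 := sub_eq_zero.2 hiso
    rw [← h1]; simp only [Gr]; module
  have hne : Gr * X ≠ 0 := by
    intro e
    refine Sy.pure_ne_zero (fun i => sm_ne hd hf (h.ne i)) (?_ : X = 0)
    exact (gram_unit hd).mul_right_eq_zero.1 e
  have h3 := (mul_eq_zero.1 ((smul_eq_zero.1 h0).resolve_right hne)).resolve_left hc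
  rcases Nat.even_or_odd (Finset.univ.filter fun i => T i = 1).card with he | ho
  · simp only [σ, he.neg_one_pow] at h3
    exact absurd (by linear_combination h3) h2
  · exact ho

/-- a commutator with one free slot -/
theorem step (hG : Over J Q G) {T : Fin t → Fin 3} (h : Act J a b f G T) (σ : Equiv.Perm (Fin t))
    (hσ : permGL σ ∈ G) {cx : Fin t → GL (Fin k) F} (hcx : ∀ i, cx i ∈ Sl J) {Y : Fin t → Matrix (Fin k) (Fin k) F}
    (hY : ∀ i, conjMat (cx i) (sm J a b f (T (σ.symm i))) = Y i) {T' : Fin t → Fin 3} {j : Fin t}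
    (hXYX : ∃ i, T i ≠ 0 ∧ sm J a b f (T i) * Y i * sm J a b f (T i) = 0)
    (hYXY : ∃ i, T (σ.symm i) ≠ 0 ∧ Y i * sm J a b f (T i) * Y i = 0)
    (hslot : ∀ i, i ≠ j → (T' i = 1 ∧ Corner a b (sm J a b f (T i)) (Y i)) ∨ Plain J a b f (sm J a b f (T i)) (Y i) (T' i))
    (hne : ∀ i, i ≠ j → T' i = 2 → f ≠ 0) {d : Fin t} (hdj : d ≠ j) (hdT : T' d ≠ 0)
    (hdP : Plain J a b f (sm J a b f (T d)) (Y d) (T' d))
    (hz : ∀ α β : F, α ≠ 0 → β ≠ 0 → α • (sm J a b f (T j) * Y j) + β • (Y j * sm J a b f (T j)) ≠ 0) :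
    ∃ u : Fin 3, (u = 2 → f ≠ 0) ∧ Mem G (pat J a b f (Function.update T' j u)) ∧
      (u ≠ 0 → Act J a b f G (Function.update T' j u)) ∧
      ((∃ e, e ≠ j ∧ e ≠ d ∧ T' e ≠ 0) → Act J a b f G (Function.update T' j u)) ∧
      ((∀ α β : F, α ≠ 0 → β ≠ 0 → ∀ r : F,
        α • (sm J a b f (T j) * Y j) + β • (Y j * sm J a b f (T j)) ≠ r • 1) → u ≠ 0) := by
  classical
  obtain ⟨c, hc, hm⟩ := h.has
  have hm' := hm.conj hσ
  rw [map_smul, pat, conj_perm_pureT] at hm'
  have hm2 := hm'.conj (hG.pure_mem hcx)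
  rw [map_smul, conj_pure_pureT, show (fun i => conjMat (cx i) (((fun i => sm J a b f (T i)) ∘ σ.symm) i)) = Y from
    funext hY] at hm2
  obtain ⟨i1, hi1, e1⟩ := hXYX
  obtain ⟨i2, hi2, e2⟩ := hYXY
  obtain ⟨α, β, hα, hβ, hmem⟩ := combine hd hf hG hc hc hm hm2 (j := j) ⟨i1, sm_sq hd hf hi1⟩
    ⟨i2, by rw [← hY, ← map_mul, sm_sq hd hf hi2, map_zero]⟩ ⟨i1, e1⟩ ⟨i2, e2⟩ hslot hdj hdT hdP
  obtain ⟨u, hu, hmu, hu0⟩ := slot_pattern hd hf hG hdj hdT rfl (hz α β hα hβ) hmem
  have e : Function.update (fun i => sm J a b f (T' i)) j (sm J a b f u) =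
      fun i => sm J a b f (Function.update T' j u i) := funext fun i => by
    rcases eq_or_ne i j with rfl | hi
    · simp
    · simp [hi]
  rw [e] at hmu
  have hne' : ∀ i, Function.update T' j u i = 2 → f ≠ 0 := fun i => by
    rcases eq_or_ne i j with rfl | hi
    · simpa using hu
    · simpa [hi] using hne i hi
  have hhas : ∃ c : F, c ≠ 0 ∧ Mem G (c • pat J a b f (Function.update T' j u)) :=
    ⟨1, one_ne_zero, by rw [one_smul]; exact hmu⟩
  refine ⟨u, hu, hmu, fun hu' => ⟨hhas, hne', d, j, hdj, by simpa [hdj] using hdT, by simpa using hu'⟩,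
    fun ⟨e, hej, hed, he⟩ => ⟨hhas, hne', d, e, hed.symm, by simpa [hdj] using hdT, by simpa [hej] using he⟩,
    fun H => hu0 (H α β hα hβ)⟩

/-- the products of two pair operators with orthogonal second vectors -/
theorem Qab_mul_orth {g : Fin k → F} (hg : g ∈ mid F a b) (hgf : frm J g f = 0) (v : Fin k → F) :
    (Qm J (Pi.single a 1) f * Qm J (Pi.single b 1) g) *ᵥ v = frm J v g • f ∧
      (Qm J (Pi.single b 1) g * Qm J (Pi.single a 1) f) *ᵥ v = -(frm J v f • g) := by
  obtain ⟨fa, fb⟩ := mem_mid.1 hf.mem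
  obtain ⟨ga, gb⟩ := mem_mid.1 hg
  have hfg := comm_zero hd.sp hgf
  constructor <;>
    simp only [← mulVec_mulVec, Qm_mulVec hd, sub_left hd.sp, hd.sp.smul, frm_a hd, frm_b hd, frm_af hd hf,
      frm_bf hd hf, fa, fb, ga, gb, hgf, hfg, hd.sp.alt, frm_a_left hd, frm_b_left hd, Pi.single_eq_same,
      Pi.single_eq_of_ne hd.hab, Pi.single_eq_of_ne hd.hab.symm] <;>
    module

/-- the products of a pair operator and a transvection operator -/
theorem Qaf_Nm {g : Fin k → F} (hg : g ∈ mid F a b) (v : Fin k → F) :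
    (Qm J (Pi.single a 1) f * Nm J g) *ᵥ v = (frm J v g * frm J g f) • Pi.single a 1 ∧
      (Nm J g * Qm J (Pi.single a 1) f) *ᵥ v = -((frm J v (Pi.single a 1) * frm J f g) • g) := by
  obtain ⟨ga, gb⟩ := mem_mid.1 hg
  constructor <;>
    simp only [← mulVec_mulVec, Qm_mulVec hd, Nm_mulVec, mulVec_smul, sub_left hd.sp, hd.sp.smul, frm_a hd, gb,
      frm_a_left hd] <;>
    module

/-- the values for a slot and its flipped copy -/
theorem flip_slot {x : GL (Fin k) F} (hx : x ∈ Sl J) (hxa : x.val *ᵥ Pi.single a 1 = Pi.single b 1)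
    (hxf : x.val *ᵥ f = f) (s : Fin 3) (hs : s = 2 → f ≠ 0) :
    ((if s ≠ 0 then (1 : Fin 3) else 0) = 1 ∧ Corner a b (sm J a b f s) (conjMat x (sm J a b f s))) ∨
      Plain J a b f (sm J a b f s) (conjMat x (sm J a b f s)) (if s ≠ 0 then 1 else 0) := by
  rcases (by omega : s.val = 0 ∨ s.val = 1 ∨ s.val = 2) with h0 | h1 | h2
  · right
    rw [show s = 0 from Fin.ext h0, if_neg (by simp)]
    refine ⟨1, 1, 1, 1, one_ne_zero, one_ne_zero, one_ne_zero, ?_, ?_, 1, one_mem _, ?_⟩ <;>
      simp [sm, conjMat_apply]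
  · left
    rw [show s = 1 from Fin.ext h1, if_pos (by decide), show sm J a b f 1 = Matrix.single a b (1 : F) from rfl,
      conj_flip_single hd hf hx hxa]
    exact ⟨rfl, -1, -1, neg_ne_zero.2 one_ne_zero, neg_ne_zero.2 one_ne_zero, by simp, by simp⟩
  · right
    have e : s = 2 := Fin.ext h2
    rw [e, if_pos (by decide), show sm J a b f 2 = Qm J (Pi.single a 1) f from rfl, conj_Qm hd hx, hxa, hxf]
    obtain ⟨e1, e2⟩ := Qab_mul hd hf
    obtain ⟨y, hy, hyf⟩ := exists_moveS hd (v := Pi.single a 1) (hs e) (ne_single a)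
    refine ⟨Nm J f, 1, -1, -1, one_ne_zero, neg_ne_zero.2 one_ne_zero, neg_ne_zero.2 one_ne_zero, by rw [e1, one_smul],
      by rw [e2, neg_one_smul], y, hy, ?_⟩
    rw [conj_Nm hd hy, hyf, Nm_a hd, show sm J a b f 1 = Matrix.single a b (1 : F) from rfl, neg_one_smul]

/-- projector mixtures are not scalar -/
theorem proj_not_scalar (h4 : 4 ≤ k) {α β : F} (hα : α ≠ 0) (r : F) :
    α • Matrix.single a a (1 : F) + β • Matrix.single b b 1 ≠ r • 1 := by
  intro e
  obtain ⟨u, hu, -, -, hu0, -, -⟩ := exists_mid_pair hd h4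
  obtain ⟨ua, ub⟩ := mem_mid.1 hu
  obtain ⟨q, hq⟩ := Function.ne_iff.1 hu0
  have hqa : q ≠ a := fun h => hq (by rw [h, ua]; rfl)
  have hqb : q ≠ b := fun h => hq (by rw [h, ub]; rfl)
  have h1 := congrFun (congrFun e q) q
  have h2 := congrFun (congrFun e a) a
  simp [hqa.symm, hqb.symm] at h1
  simp [hd.hab.symm, ← h1] at h2
  exact hα h2

theorem flip_z (h4 : 4 ≤ k) {x : GL (Fin k) F} (hx : x ∈ Sl J) (hxa : x.val *ᵥ Pi.single a 1 = Pi.single b 1)
    {α β : F} (hα : α ≠ 0) (r : F) :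
    α • (sm J a b f 1 * conjMat x (sm J a b f 1)) + β • (conjMat x (sm J a b f 1) * sm J a b f 1) ≠ r • 1 := by
  rw [show sm J a b f 1 = Matrix.single a b (1 : F) from rfl, conj_flip_single hd hf hx hxa, mul_neg, neg_mul,
    Matrix.single_mul_single_same, Matrix.single_mul_single_same, mul_one, smul_neg, smul_neg, ← neg_smul, ← neg_smul]
  exact proj_not_scalar hd hf h4 (neg_ne_zero.2 hα) r

/-- all slots but one become roots -/
theorem clean_at (hG : Over J Q G) {T : Fin t → Fin 3} (h : Act J a b f G T) {d j : Fin t} (hdj : d ≠ j) (hd2 : T d = 2)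
    (hjT : T j = 1 ∨ (T j = 2 ∧ (2 : F) = 0)) :
    ∃ u : Fin 3, u ≠ 0 ∧ Act J a b f G (Function.update (fun i => if T i ≠ 0 then 1 else 0) j u) := by
  classical
  have hf0 := h.ne d hd2
  have h4 : 4 ≤ k := by
    by_contra h4
    exact hf0 (mid_zero hd h4 hf.mem)
  obtain ⟨x, hx, hxa, -, hxf⟩ := exists_flip hd hf
  -- the partner of the free slot
  obtain ⟨xj, hxj, hz⟩ : ∃ xj ∈ Sl J, ∀ α β : F, α ≠ 0 → β ≠ 0 → ∀ r : F,
      α • (sm J a b f (T j) * conjMat xj (sm J a b f (T j))) + β • (conjMat xj (sm J a b f (T j)) * sm J a b f (T j)) ≠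
        r • 1 := by
    rcases hjT with e | ⟨e, h2⟩
    · exact ⟨x, hx, fun α β hα _ r => by rw [e]; exact flip_z hd hf h4 hx hxa hα r⟩
    · have h6 := hd.ch.resolve_left (not_not.2 h2)
      obtain ⟨g, hg, hgf, hgs⟩ := exists_orth_mid hd (by omega) f
      have hg0 : g ≠ 0 := fun e => hgs (e ▸ zero_mem _)
      obtain ⟨y, hy, -, hyb, hyf⟩ := exists_mid_move hd hf.mem hg hf0 hg0
      refine ⟨y * x, mul_mem hy hx, fun α β hα hβ r he => ?_⟩
      have hfg := comm_zero hd.sp hgf
      rw [e, show sm J a b f 2 = Qm J (Pi.single a 1) f from rfl, conj_Qm hd (mul_mem hy hx), mulVec_mul_GL,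
        mulVec_mul_GL, hxa, hxf, hyb, hyf] at he
      obtain ⟨ga, gb⟩ := mem_mid.1 hg
      obtain ⟨fa, fb⟩ := mem_mid.1 hf.mem
      obtain ⟨va, vb⟩ := mem_mid.1 hg
      have hQ := Qab_mul_orth hd hf hg hgf
      -- the value on `a`
      have h1 := congrArg (fun M => M *ᵥ (Pi.single a 1 : Fin k → F)) he
      simp only [add_mulVec, smul_mulVec, (hQ _).1, (hQ _).2, frm_af hd hf, frm_a_left hd, gb, zero_smul, neg_zero,
        smul_zero, add_zero, one_mulVec] at h1
      have hr : r = 0 := by simpa using congrFun h1.symm a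
      obtain ⟨v, hv1, hv2⟩ := exists_perp_value hd.sp hgs
      have h3 := congrArg (fun M => M *ᵥ v) he
      simp only [add_mulVec, smul_mulVec, (hQ _).1, (hQ _).2, hv1, hv2, hr, one_smul, zero_smul, neg_zero, smul_zero,
        add_zero, zero_mulVec] at h3
      exact hf0 ((smul_eq_zero.1 h3).resolve_left hα)
  set cx := Function.update (fun _ => x) j xj
  have hcx : ∀ i, cx i ∈ Sl J := fun i => by
    rcases eq_or_ne i j with rfl | hi
    · simpa [cx] using hxj
    · simpa [cx, hi] using hx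
  set Y := fun i => conjMat (cx i) (sm J a b f (T i))
  have hYd : Y d = Qm J (Pi.single b 1) f := by
    simp only [Y, cx, Function.update_of_ne hdj, hd2]
    show conjMat x (Qm J (Pi.single a 1) f) = _
    rw [conj_Qm hd hx, hxa, hxf]
  have hsd : sm J a b f (T d) = Qm J (Pi.single a 1) f := by rw [hd2]; rfl
  obtain ⟨e1, e2⟩ := Qab_mul hd hf
  obtain ⟨u, -, -, hact, -, hu⟩ := step hd hf hG h 1 (by rw [permGL_one]; exact one_mem G) hcx (Y := Y) (fun i => rfl)
    (T' := fun i => if T i ≠ 0 then 1 else 0) (j := j)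
    ⟨d, by rw [hd2]; decide, by rw [hsd, hYd, e1, Nm_mul_Qaf hd hf]⟩
    ⟨d, by rw [Equiv.Perm.one_def, Equiv.refl_symm, Equiv.refl_apply, hd2]; decide, by
      rw [hsd, hYd, e2, neg_mul, neg_eq_zero]
      have h3 := congrArg (conjMat x) (Nm_mul_Qaf hd hf)
      rwa [map_mul, map_zero, conj_Nm hd hx, hxf, conj_Qm hd hx, hxa, hxf] at h3⟩
    (fun i hi => by
      simp only [Y, cx, Function.update_of_ne hi]
      exact flip_slot hd hf hx hxa hxf (T i) (h.ne i))
    (fun i _ hi => absurd hi (by split_ifs <;> decide)) hdj (by simp [hd2])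
    (by
      simp only [Y, cx, Function.update_of_ne hdj]
      refine (flip_slot hd hf hx hxa hxf (T d) (h.ne d)).resolve_left ?_
      rintro ⟨-, p, q, hp, -, ep, -⟩
      rw [hd2, show sm J a b f 2 = Qm J (Pi.single a 1) f from rfl, conj_Qm hd hx, hxa, hxf, e1] at ep
      obtain ⟨fa, fb⟩ := mem_mid.1 hf.mem
      have h5 := congrFun (congrFun ep a) a
      simp [Nm, vecMulVec_apply, fa, hp.symm] at h5)
    (fun α β hα hβ e => hz α β hα hβ 0 (by rw [zero_smul]; simpa [Y, cx] using e))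
  have hu0 : u ≠ 0 := hu fun α β hα hβ r => by simpa [Y, cx] using hz α β hα hβ r
  exact ⟨u, hu0, hact hu0⟩

/-- at most one pair slot -/
theorem clean (hG : Over J Q G) {T : Fin t → Fin 3} (h : Act J a b f G T) :
    ∃ T', Act J a b f G T' ∧ (∀ i, T' i = 0 ↔ T i = 0) ∧ ∀ i l, T' i = 2 → T' l = 2 → i = l := by
  classical
  by_cases hk : ∃ d, T d = 2
  swap
  · push Not at hk; exact ⟨T, h, fun _ => Iff.rfl, fun i _ hi => absurd hi (hk i)⟩
  obtain ⟨d, hd2⟩ := hk
  obtain ⟨d', j, hdj, hd', hjT⟩ : ∃ d' j, d' ≠ j ∧ T d' = 2 ∧ (T j = 1 ∨ (T j = 2 ∧ (2 : F) = 0)) := by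
    by_cases h1 : ∃ j, T j = 1
    · obtain ⟨j, hj⟩ := h1
      exact ⟨d, j, fun e => by rw [e, hj] at hd2; exact absurd hd2 (by decide), hd2, Or.inl hj⟩
    · have h2 : (2 : F) = 0 := by
        by_contra h2
        obtain ⟨j, hj⟩ := Finset.card_pos.1 (h.odd hd hf hG h2).pos
        exact h1 ⟨j, by simpa using hj⟩
      push Not at h1
      obtain ⟨i, l, hil, hi, hl⟩ := h.two
      have h2' : ∀ i, T i ≠ 0 → T i = 2 := fun i hi => by
        rcases (by omega : (T i).val = 0 ∨ (T i).val = 1 ∨ (T i).val = 2) with e | e | e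
        exacts [absurd (Fin.ext e) hi, absurd (Fin.ext e) (h1 i), Fin.ext e]
      exact ⟨i, l, hil, h2' i hi, Or.inr ⟨h2' l hl, h2⟩⟩
  obtain ⟨u, hu0, hact⟩ := clean_at hd hf hG h hdj hd' hjT
  have hj0 : T j ≠ 0 := by rcases hjT with e | ⟨e, -⟩ <;> rw [e] <;> decide
  refine ⟨_, hact, fun i => ?_, fun i l hi hl => ?_⟩
  · rcases eq_or_ne i j with rfl | hij
    · simp [hu0, hj0]
    · simp only [Function.update_of_ne hij]
      split_ifs with h0 <;> simp_all
  · have key : ∀ i, Function.update (fun i => if T i ≠ 0 then (1 : Fin 3) else 0) j u i = 2 → i = j := fun i hi => by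
      by_contra hij
      rw [Function.update_of_ne hij] at hi
      split_ifs at hi <;> exact absurd hi (by decide)
    rw [key i hi, key l hl]

/-- one more active slot -/
theorem grow (h4 : 4 ≤ k) (hG : Over J Q G) {T : Fin t → Fin 3} (h : Act J a b f G T) {z : Fin t} (hz : T z = 0) :
    ∃ T', Act J a b f G T' ∧ (∀ i, T i ≠ 0 → T' i ≠ 0) ∧ T' z ≠ 0 := by
  classical
  obtain ⟨T1, h1, h0, hone⟩ := clean hd hf hG h
  suffices ∃ T', Act J a b f G T' ∧ (∀ i, T1 i ≠ 0 → T' i ≠ 0) ∧ T' z ≠ 0 by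
    obtain ⟨T', h', hi, hz'⟩ := this
    exact ⟨T', h', fun i hi' => hi i fun e => hi' ((h0 i).1 e), hz'⟩
  have hz1 : T1 z = 0 := (h0 z).2 hz
  have cases3 : ∀ i, T1 i = 0 ∨ T1 i = 1 ∨ T1 i = 2 := fun i => by
    rcases (by omega : (T1 i).val = 0 ∨ (T1 i).val = 1 ∨ (T1 i).val = 2) with e | e | e
    exacts [Or.inl (Fin.ext e), Or.inr (Or.inl (Fin.ext e)), Or.inr (Or.inr (Fin.ext e))]
  have hone' : ∀ {w : Fin 3}, w ≠ 0 → Plain J a b f (sm J a b f w) 1 w ∧ Plain J a b f 1 (sm J a b f w) w := fun {w} _ =>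
    ⟨⟨sm J a b f w, 1, 1, 1, one_ne_zero, one_ne_zero, one_ne_zero, by simp, by simp, 1, one_mem _, by simp [conjMat_apply]⟩,
      ⟨sm J a b f w, 1, 1, 1, one_ne_zero, one_ne_zero, one_ne_zero, by simp, by simp, 1, one_mem _, by simp [conjMat_apply]⟩⟩
  have hEE : (Matrix.single a b (1 : F)) * 1 * Matrix.single a b 1 = 0 := by
    rw [mul_one]; exact Matrix.single_mul_single_of_ne _ _ _ _ hd.hab.symm _
  have hone1 : ∀ (w : GL (Fin k) F), conjMat w (sm J a b f 0) = 1 := fun w => map_one (conjMat w)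
  obtain ⟨x, hx, hxa, -, hxf⟩ := exists_flip hd hf
  by_cases hN : ∃ r1 r2, r1 ≠ r2 ∧ T1 r1 = 1 ∧ T1 r2 = 1
  · obtain ⟨r1, r2, hr, hr1, hr2⟩ := hN
    have hzr1 : z ≠ r1 := fun e => by rw [e, hr1] at hz1; exact absurd hz1 (by decide)
    have hzr2 : z ≠ r2 := fun e => by rw [e, hr2] at hz1; exact absurd hz1 (by decide)
    set σ := Equiv.swap r1 r2 * Equiv.swap r1 z
    have s1 : σ.symm z = r1 := by
      rw [Equiv.symm_apply_eq]; simp [σ, Equiv.swap_apply_of_ne_of_ne hzr1 hzr2]
    have s2 : σ.symm r2 = z := by rw [Equiv.symm_apply_eq]; simp [σ]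
    have s3 : σ.symm r1 = r2 := by
      rw [Equiv.symm_apply_eq]; simp [σ, Equiv.swap_apply_of_ne_of_ne hr.symm hzr2.symm]
    have s4 : ∀ i, i ≠ z → i ≠ r1 → i ≠ r2 → σ.symm i = i := fun i a1 a2 a3 => by
      rw [Equiv.symm_apply_eq]; simp [σ, Equiv.swap_apply_of_ne_of_ne a2 a1, Equiv.swap_apply_of_ne_of_ne a2 a3]
    set cx := Function.update (fun _ => x) z 1
    set Y := fun i => conjMat (cx i) (sm J a b f (T1 (σ.symm i)))
    have Yz : Y z = Matrix.single a b 1 := by simp [Y, cx, s1, hr1, sm, conjMat_apply]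
    have Yr2 : Y r2 = 1 := by simp only [Y, s2, hz1]; exact hone1 _
    have Xr2 : sm J a b f (T1 r2) = Matrix.single a b 1 := by rw [hr2]; rfl
    have Xz : sm J a b f (T1 z) = 1 := by rw [hz1]; rfl
    obtain ⟨u, -, -, hact, -, hu⟩ := step hd hf hG h1 σ (hG.swaps hr hzr1.symm) (cx := cx)
      (fun i => by
        rcases eq_or_ne i z with rfl | hi
        · simp [cx, one_mem]
        · simpa [cx, hi] using hx)
      (Y := Y) (fun i => rfl) (T' := fun i => if T1 i ≠ 0 ∨ i = z then 1 else 0) (j := r1)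
      ⟨r2, by rw [hr2]; decide, by rw [Yr2, Xr2]; exact hEE⟩
      ⟨z, by rw [s1, hr1]; decide, by rw [Yz, Xz]; exact hEE⟩
      (fun i hi => by
        rcases eq_or_ne i z with rfl | hiz
        · right; rw [Yz, Xz]; simp only [or_true, if_true]; exact (hone' (w := 1) (by decide)).2
        rcases eq_or_ne i r2 with rfl | hir
        · right; rw [Yr2, Xr2]; simp only [hr2, ne_eq, one_ne_zero, not_false_eq_true, true_or, if_true]
          exact (hone' (w := 1) (by decide)).1
        simp only [hiz, or_false, Y, cx, Function.update_of_ne hiz, s4 i hiz hi hir]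
        exact flip_slot hd hf hx hxa hxf (T1 i) (h1.ne i))
      (fun i _ hi => absurd hi (by split_ifs <;> decide)) hzr1 (by simp)
      (by rw [Yz, Xz]; simp only [or_true, if_true]; exact (hone' (w := 1) (by decide)).2)
      (fun α β hα hβ e => by
        have := flip_z hd hf h4 hx hxa (α := α) (β := β) hα 0
        simp [Y, cx, s3, hr1, hr2, hzr1.symm] at e this
        exact this e)
    have hu0 : u ≠ 0 := hu fun α β hα hβ r => by
      simpa [Y, cx, s3, hr1, hr2, hzr1.symm] using flip_z hd hf h4 hx hxa (α := α) (β := β) hα r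
    refine ⟨_, hact hu0, fun i hi => ?_, ?_⟩
    · rcases eq_or_ne i r1 with rfl | hi1
      · simpa using hu0
      · simp [hi1, hi]
    · simp [hzr1]
  · push Not at hN
    obtain ⟨i, l, hil, hi0, hl0⟩ := h1.two
    obtain ⟨r, v, hrv, hr, hv⟩ : ∃ r v, r ≠ v ∧ T1 r = 1 ∧ T1 v = 2 := by
      rcases (cases3 i).resolve_left hi0 with e | e <;> rcases (cases3 l).resolve_left hl0 with e' | e'
      · exact absurd e' (hN i l hil e)
      · exact ⟨i, l, hil, e, e'⟩
      · exact ⟨l, i, hil.symm, e', e⟩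
      · exact absurd (hone i l e e') hil
    have hrest : ∀ p, p ≠ r → p ≠ v → T1 p = 0 := fun p p1 p2 => by
      rcases cases3 p with e | e | e
      exacts [e, absurd e (hN r p p1.symm hr), absurd (hone p v e hv) p2]
    have hzr : z ≠ r := fun e => by rw [e, hr] at hz1; exact absurd hz1 (by decide)
    have hzv : z ≠ v := fun e => by rw [e, hv] at hz1; exact absurd hz1 (by decide)
    have hf0 := h1.ne v hv
    obtain ⟨g, hg, hfg⟩ : ∃ g ∈ mid F a b, frm J f g ≠ 0 := by
      by_contra hc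
      push Not at hc
      exact hf0 (mid_nondeg hd f hf.mem hc)
    obtain ⟨y, hy, hya⟩ := exists_moveS hd (u := Pi.single a 1) (v := g) (ne_single a)
      fun e => hfg (by rw [e, zero_right hd.sp])
    set σ := Equiv.swap z v * Equiv.swap z r
    have s1 : σ.symm r = z := by
      rw [Equiv.symm_apply_eq]; simp [σ, Equiv.swap_apply_of_ne_of_ne hzr.symm hrv]
    have s2 : σ.symm v = r := by rw [Equiv.symm_apply_eq]; simp [σ]
    have s3 : σ.symm z = v := by
      rw [Equiv.symm_apply_eq]; simp [σ, Equiv.swap_apply_of_ne_of_ne hzv.symm hrv.symm]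
    have s4 : ∀ p, p ≠ z → p ≠ r → p ≠ v → σ.symm p = p := fun p a1 a2 a3 => by
      rw [Equiv.symm_apply_eq]; simp [σ, Equiv.swap_apply_of_ne_of_ne a1 a2, Equiv.swap_apply_of_ne_of_ne a1 a3]
    set cx : Fin t → GL (Fin k) F := Function.update (fun _ => 1) v y
    set Y := fun i => conjMat (cx i) (sm J a b f (T1 (σ.symm i)))
    have Yz : Y z = sm J a b f 2 := by simp [Y, cx, s3, hv, hzv, conjMat_apply]
    have Yr : Y r = 1 := by simp only [Y, s1, hz1]; exact hone1 _
    have Yv : Y v = -Nm J g := by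
      simp only [Y, cx, Function.update_self, s2, hr]
      show conjMat y (Matrix.single a b (1 : F)) = _
      rw [← neg_neg (Matrix.single a b (1 : F)), ← Nm_a hd, map_neg, conj_Nm hd hy, hya]
    have Xr : sm J a b f (T1 r) = Matrix.single a b 1 := by rw [hr]; rfl
    have Xz : sm J a b f (T1 z) = 1 := by rw [hz1]; rfl
    have Xv : sm J a b f (T1 v) = Qm J (Pi.single a 1) f := by rw [hv]; rfl
    obtain ⟨ga, gb⟩ := mem_mid.1 hg
    have hag : frm J (Pi.single a 1) g = 0 := by rw [frm_a_left hd, gb]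
    have hval : ∀ α β r : F, α ≠ 0 → α • (sm J a b f (T1 v) * Y v) + β • (Y v * sm J a b f (T1 v)) ≠ r • 1 := by
      intro α β r hα e
      rw [Yv, Xv, mul_neg, neg_mul] at e
      have hQ := Qaf_Nm hd hf hg
      have h5 := congrArg (fun M => M *ᵥ (Pi.single a 1 : Fin k → F)) e
      simp only [add_mulVec, smul_mulVec, neg_mulVec, (hQ _).1, (hQ _).2, hag, hd.sp.alt, zero_mul, zero_smul, neg_zero,
        smul_zero, add_zero, one_mulVec] at h5
      have hr : r = 0 := by simpa using congrFun h5.symm a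
      have h6 := congrArg (fun M => M *ᵥ f) e
      simp only [add_mulVec, smul_mulVec, neg_mulVec, (hQ _).1, (hQ _).2, comm_zero hd.sp (frm_af hd hf), zero_mul, hr,
        zero_smul, neg_zero, smul_zero, add_zero, zero_mulVec] at h6
      have h7 := congrFun h6 a
      simp [hα] at h7
      exact hfg (h7.elim id fun h => comm_zero hd.sp h)
    obtain ⟨u, -, -, hact, -, hu⟩ := step hd hf hG h1 σ (hG.swaps hzv hzr) (cx := cx)
      (fun i => by
        rcases eq_or_ne i v with rfl | hi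
        · simpa [cx] using hy
        · simp [cx, hi, one_mem])
      (Y := Y) (fun i => rfl) (T' := Function.update T1 z 2) (j := v)
      ⟨r, by rw [hr]; decide, by rw [Yr, Xr]; exact hEE⟩
      ⟨z, by rw [s3, hv]; decide, by rw [Yz, Xz, mul_one]; exact sm_sq hd hf (by decide)⟩
      (fun i hi => by
        right
        rcases eq_or_ne i z with rfl | hiz
        · rw [Yz, Xz, Function.update_self]; exact (hone' (w := 2) (by decide)).2
        rw [Function.update_of_ne hiz]
        rcases eq_or_ne i r with rfl | hir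
        · rw [Yr, Xr, hr]; exact (hone' (w := 1) (by decide)).1
        rw [hrest i hir hi, show Y i = 1 by simp only [Y, s4 i hiz hir hi, hrest i hir hi]; exact hone1 _]
        exact ⟨1, 1, 1, 1, one_ne_zero, one_ne_zero, one_ne_zero, by simp [sm], by simp [sm], 1, one_mem _,
          by simp [sm]⟩)
      (fun i _ _ => hf0) hrv (by rw [Function.update_of_ne hzr.symm, hr]; decide)
      (by rw [Yr, Xr, Function.update_of_ne hzr.symm, hr]; exact (hone' (w := 1) (by decide)).1)
      (fun α β hα _ e => hval α β 0 hα (by rw [zero_smul]; exact e))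
    have hu0 : u ≠ 0 := hu fun α β hα _ r => hval α β r hα
    refine ⟨_, hact hu0, fun i hi => ?_, ?_⟩
    · rcases eq_or_ne i v with rfl | hiv
      · simpa using hu0
      · rcases eq_or_ne i z with rfl | hiz
        · exact absurd hz1 hi
        · simpa [hiv, hiz] using hi
    · simp [hzv]

/-- two more roots for two-dimensional slots -/
theorem grow_two (h4 : ¬ 4 ≤ k) (hG : Over J Q G) {T : Fin t → Fin 3} (h : Act J a b f G T) {z1 z2 : Fin t}
    (hz : z1 ≠ z2) (hz1 : T z1 = 0) (hz2 : T z2 = 0) :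
    ∃ T', Act J a b f G T' ∧ (∀ i, T i ≠ 0 → T' i ≠ 0) ∧ T' z1 ≠ 0 := by
  classical
  have h2 : (2 : F) ≠ 0 := hd.ch.resolve_right (by omega)
  have hf0 : f = 0 := mid_zero hd h4 hf.mem
  have h01 : ∀ i, T i = 0 ∨ T i = 1 := fun i => by
    rcases (by omega : (T i).val = 0 ∨ (T i).val = 1 ∨ (T i).val = 2) with e | e | e
    exacts [Or.inl (Fin.ext e), Or.inr (Fin.ext e), absurd hf0 (h.ne i (Fin.ext e))]
  set N := Finset.univ.filter fun i => T i = 1 with hN
  obtain ⟨p, hp⟩ := h.odd hd hf hG h2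
  have h3 : 2 < N.card := by
    obtain ⟨i, l, hil, hi, hl⟩ := h.two
    have : 1 < N.card := Finset.one_lt_card.2
      ⟨i, by simp [hN, (h01 i).resolve_left hi], l, by simp [hN, (h01 l).resolve_left hl], hil⟩
    rw [hN] at this ⊢; omega
  obtain ⟨r1, r2, r3, hr1, hr2, hr3, h12, h13, h23⟩ := Finset.two_lt_card_iff.1 h3
  simp only [hN, Finset.mem_filter, Finset.mem_univ, true_and] at hr1 hr2 hr3
  have hne : ∀ {p q}, T p = 1 → T q = 0 → p ≠ q := fun h1 h2 e => by rw [e, h2] at h1; exact absurd h1 (by decide)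
  set σ := Equiv.swap r1 z1 * Equiv.swap r2 z2
  have s1 : σ.symm z1 = r1 := by
    rw [Equiv.symm_apply_eq]; simp [σ, Equiv.swap_apply_of_ne_of_ne h12 (hne hr1 hz2)]
  have s2 : σ.symm z2 = r2 := by
    rw [Equiv.symm_apply_eq]; simp [σ, Equiv.swap_apply_of_ne_of_ne (hne hr1 hz2).symm hz.symm]
  have s3 : σ.symm r1 = z1 := by
    rw [Equiv.symm_apply_eq]; simp [σ, Equiv.swap_apply_of_ne_of_ne (hne hr2 hz1).symm hz]
  have s5 : σ.symm r2 = z2 := by
    rw [Equiv.symm_apply_eq]; simp [σ, Equiv.swap_apply_of_ne_of_ne h12.symm (hne hr2 hz1)]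
  have s4 : ∀ i, i ≠ r1 → i ≠ r2 → i ≠ z1 → i ≠ z2 → σ.symm i = i := fun i a1 a2 a3 a4 => by
    rw [Equiv.symm_apply_eq]; simp [σ, Equiv.swap_apply_of_ne_of_ne a2 a4, Equiv.swap_apply_of_ne_of_ne a1 a3]
  obtain ⟨x, hx, hxa, -, hxf⟩ := exists_flip hd hf
  set cx := Function.update (Function.update (fun _ => x) z1 1) z2 1
  set Y := fun i => conjMat (cx i) (sm J a b f (T (σ.symm i)))
  set E := Matrix.single a b (1 : F) with hE
  have hone1 : ∀ (w : GL (Fin k) F), conjMat w (sm J a b f 0) = 1 := fun w => map_one (conjMat w)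
  have Yz1 : Y z1 = E := by simp [Y, cx, s1, hr1, hz, sm, conjMat_apply, hE]
  have Yz2 : Y z2 = E := by simp [Y, cx, s2, hr2, sm, conjMat_apply, hE]
  have Yr1 : Y r1 = 1 := by simp only [Y, s3, hz1]; exact hone1 _
  have Yr2 : Y r2 = 1 := by simp only [Y, s5, hz2]; exact hone1 _
  have hX : ∀ i, (T i = 0 → sm J a b f (T i) = 1) ∧ (T i = 1 → sm J a b f (T i) = E) :=
    fun i => ⟨fun e => by rw [e]; rfl, fun e => by rw [e]; rfl⟩
  have hEE : E * 1 * E = 0 := by rw [mul_one]; exact Matrix.single_mul_single_of_ne _ _ _ _ hd.hab.symm _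
  have pl : Plain J a b f E 1 1 ∧ Plain J a b f 1 E 1 :=
    ⟨⟨E, 1, 1, 1, one_ne_zero, one_ne_zero, one_ne_zero, by simp, by simp, 1, one_mem _, by simp [conjMat_apply, sm, hE]⟩,
      ⟨E, 1, 1, 1, one_ne_zero, one_ne_zero, one_ne_zero, by simp, by simp, 1, one_mem _, by simp [conjMat_apply, sm, hE]⟩⟩
  obtain ⟨u, hu2, -, -, hact, -⟩ := step hd hf hG h σ (hG.swaps (hne hr1 hz1) (hne hr2 hz2)) (cx := cx)
    (fun i => by
      simp only [cx, Function.update_apply]
      split_ifs
      exacts [one_mem _, one_mem _, hx])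
    (Y := Y) (fun i => rfl) (T' := fun i => if T i ≠ 0 ∨ i = z1 ∨ i = z2 then 1 else 0) (j := r3)
    ⟨r1, by rw [hr1]; decide, by rw [Yr1, (hX r1).2 hr1]; exact hEE⟩
    ⟨z1, by rw [s1, hr1]; decide, by rw [Yz1, (hX z1).1 hz1]; exact hEE⟩
    (fun i hi => by
      by_cases a1 : i = z1
      · right; subst a1; rw [Yz1, (hX i).1 hz1]; simpa using pl.2
      by_cases a2 : i = z2
      · right; subst a2; rw [Yz2, (hX i).1 hz2]; simpa using pl.2
      by_cases a3 : i = r1
      · right; subst a3; rw [Yr1, (hX i).2 hr1]; simpa [hr1] using pl.1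
      by_cases a4 : i = r2
      · right; subst a4; rw [Yr2, (hX i).2 hr2]; simpa [hr2] using pl.1
      simp only [a1, a2, or_false, Y, cx, Function.update_of_ne a2, Function.update_of_ne a1, s4 i a3 a4 a1 a2]
      exact flip_slot hd hf hx hxa hxf (T i) (h.ne i))
    (fun i _ hi => absurd hi (by split_ifs <;> decide)) (d := z1) (hne hr3 hz1).symm (by simp)
    (by rw [Yz1, (hX z1).1 hz1]; simpa using pl.2)
    (fun α β hα _ e => by
      have hY3 : Y r3 = -Matrix.single b a 1 := by
        simp only [Y, cx, Function.update_of_ne (hne hr3 hz2), Function.update_of_ne (hne hr3 hz1),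
          s4 r3 h13.symm h23.symm (hne hr3 hz1) (hne hr3 hz2), hr3]
        exact conj_flip_single hd hf hx hxa
      rw [(hX r3).2 hr3, hY3, hE] at e
      have := congrFun (congrFun e a) a
      simp [hd.hab, hd.hab.symm, hα] at this)
  have hA : Act J a b f G (Function.update (fun i => if T i ≠ 0 ∨ i = z1 ∨ i = z2 then 1 else 0) r3 u) :=
    hact ⟨z2, (hne hr3 hz2).symm, hz.symm, by simp⟩
  -- the parity forces a root in the free slot
  have hu0 : u ≠ 0 := fun hu => by
    obtain ⟨p', hp'⟩ := hA.odd hd hf hG h2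
    have e : (Finset.univ.filter fun i =>
        Function.update (fun i => if T i ≠ 0 ∨ i = z1 ∨ i = z2 then (1 : Fin 3) else 0) r3 u i = 1) =
        insert z1 (insert z2 (N.erase r3)) := by
      ext i
      rcases eq_or_ne i r3 with rfl | hi
      · simp [hu, hne hr3 hz1, hne hr3 hz2]
      · rcases h01 i with e | e <;> by_cases a1 : i = z1 <;> by_cases a2 : i = z2 <;> simp_all
    rw [e, Finset.card_insert_of_notMem (by simp [hN, hz, hz1]), Finset.card_insert_of_notMem (by simp [hN, hz2]),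
      Finset.card_erase_of_mem (by simp [hN, hr3])] at hp'
    rw [hN] at h3 hp'
    omega
  refine ⟨_, hA, fun i hi => ?_, by simp [(hne hr3 hz1).symm]⟩
  rcases eq_or_ne i r3 with rfl | hi3
  · simpa using hu0
  · simp [hi3, hi]

/-- all root elements with their second vector in one slot -/
theorem roots_mem (hG : Over J Q G) (ht : (2 : F) ≠ 0 → Even t) (ht4 : 4 ≤ k ∨ 4 ≤ t) {T : Fin t → Fin 3}
    (h : Act J a b f G T) (j : Fin t) (r : F) : Mem G (r • rootMat J a b f j) := by
  classical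
  induction hn : (Finset.univ.filter fun i => T i = 0).card using Nat.strong_induction_on generalizing T with
  | _ n ih =>
  subst hn
  have hmore : ∀ {T'}, Act J a b f G T' → (∀ i, T i ≠ 0 → T' i ≠ 0) → ∀ z, T z = 0 → T' z ≠ 0 →
      Mem G (r • rootMat J a b f j) := fun {T'} h' hsub z hz hz' => by
    refine ih _ ?_ h' rfl
    refine Finset.card_lt_card ((Finset.ssubset_iff_of_subset fun p hp => ?_).2 ⟨z, by simp [hz], by simp [hz']⟩)
    simp only [Finset.mem_filter, Finset.mem_univ, true_and] at hp ⊢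
    by_contra hp0
    exact hsub p hp0 hp
  by_cases h4 : 4 ≤ k
  · by_cases hz : ∃ z, T z = 0
    · obtain ⟨z, hz⟩ := hz
      obtain ⟨T', h', hsub, hz'⟩ := grow hd hf h4 hG h hz
      exact hmore h' hsub z hz hz'
    push Not at hz
    obtain ⟨T1, h1, h0, hone⟩ := clean hd hf hG h
    have h12 : ∀ i, T1 i = 1 ∨ T1 i = 2 := fun i => by
      rcases (by omega : (T1 i).val = 0 ∨ (T1 i).val = 1 ∨ (T1 i).val = 2) with e | e | e
      exacts [absurd ((h0 i).1 (Fin.ext e)) (hz i), Or.inl (Fin.ext e), Or.inr (Fin.ext e)]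
    obtain ⟨j0, hj0⟩ := h1.exists_non_root hd hf hG
    replace hj0 := (h12 j0).resolve_left hj0
    obtain ⟨T2, h2, hT2⟩ : ∃ T2, Act J a b f G T2 ∧ T2 = Function.update (fun _ => 1) j 2 := by
      rcases eq_or_ne j0 j with rfl | hne
      · refine ⟨T1, h1, funext fun i => ?_⟩
        rcases eq_or_ne i j0 with rfl | hi
        · simpa using hj0
        · rw [Function.update_of_ne hi]
          exact (h12 i).resolve_right fun e => hi (hone i j0 e hj0)
      · have hj1 : T1 j = 1 := (h12 j).resolve_right fun e => hne (hone j0 j hj0 e)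
        obtain ⟨u, hu0, hact⟩ := clean_at hd hf hG h1 hne hj0 (Or.inl hj1)
        obtain ⟨i, hi⟩ := hact.exists_non_root hd hf hG
        have e : Function.update (fun i => if T1 i ≠ 0 then (1 : Fin 3) else 0) j u = Function.update (fun _ => 1) j u := by
          funext l
          rcases eq_or_ne l j with rfl | hl
          · simp
          · rcases h12 l with e | e <;> simp [hl, e]
        rw [e] at hact hi
        rcases (by omega : u.val = 0 ∨ u.val = 1 ∨ u.val = 2) with e' | e' | e'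
        · exact absurd (Fin.ext e') hu0
        · rw [show u = 1 from Fin.ext e', show Function.update (fun _ : Fin t => (1 : Fin 3)) j 1 = fun _ => 1 from
            Function.update_eq_self j _] at hi
          exact absurd rfl hi
        · exact ⟨_, hact, by rw [show u = 2 from Fin.ext e']⟩
    have h3 := h2.scale hd hf hG r
    convert h3 using 3
    rw [rootMat, pat, hT2, sv, if_pos h4]
    congr 1
    funext i
    rcases eq_or_ne i j with rfl | hi
    · simp [sm]
    · simp [hi, sm]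
  · have h2 : (2 : F) ≠ 0 := hd.ch.resolve_right (by omega)
    have hf0 : f = 0 := mid_zero hd h4 hf.mem
    by_cases hz : ∃ z1 z2, z1 ≠ z2 ∧ T z1 = 0 ∧ T z2 = 0
    · obtain ⟨z1, z2, hz12, hz1, hz2⟩ := hz
      obtain ⟨T', h', hsub, hz'⟩ := grow_two hd hf h4 hG h hz12 hz1 hz2
      exact hmore h' hsub z1 hz1 hz'
    push Not at hz
    have h01 : ∀ i, T i = 0 ∨ T i = 1 := fun i => by
      rcases (by omega : (T i).val = 0 ∨ (T i).val = 1 ∨ (T i).val = 2) with e | e | e
      exacts [Or.inl (Fin.ext e), Or.inr (Fin.ext e), absurd hf0 (h.ne i (Fin.ext e))]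
    obtain ⟨z, hz0⟩ := h.exists_non_root hd hf hG
    replace hz0 := (h01 z).resolve_right hz0
    have hrest : ∀ i, i ≠ z → T i = 1 := fun i hi => (h01 i).resolve_left (hz z i hi.symm hz0)
    have hT : (fun i => sm J a b f (T i)) = Function.update (fun _ => Matrix.single a b 1) z 1 := by
      funext i
      rcases eq_or_ne i z with rfl | hi
      · simp [hz0, sm]
      · simp [hi, hrest i hi, sm]
    have h3 := h.scale hd hf hG r
    rw [pat, hT] at h3
    rw [rootMat, sv, if_neg h4, Qm_ab hd h4]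
    rcases eq_or_ne z j with rfl | hne
    · exact h3
    have ht4' := ht4.resolve_left h4
    obtain ⟨p, hp, q, hq, hpq⟩ : ∃ p ∈ ((Finset.univ.erase z).erase j), ∃ q ∈ ((Finset.univ.erase z).erase j), p ≠ q := by
      refine Finset.one_lt_card.1 ?_
      rw [Finset.card_erase_of_mem (by simp [hne.symm]), Finset.card_erase_of_mem (Finset.mem_univ _), Finset.card_univ,
        Fintype.card_fin]
      omega
    simp only [Finset.mem_erase, Finset.mem_univ, and_true] at hp hq
    set σ := Equiv.swap z j * Equiv.swap p q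
    have h5 := h3.conj (hG.swaps hne hpq)
    rw [map_smul, conj_perm_pureT] at h5
    convert h5 using 3
    funext i
    have hj : σ.symm j = z := by
      rw [Equiv.symm_apply_eq]; simp [σ, Equiv.swap_apply_of_ne_of_ne hp.2.symm hq.2.symm]
    rw [Function.comp_apply, show Equiv.swap z j * Equiv.swap p q = σ from rfl]
    rcases eq_or_ne i j with rfl | hi
    · simp [hj]
    · have hi' : σ.symm i ≠ z := fun e => hi (σ.symm.injective (e.trans hj.symm))
      simp [hi, hi']

end Cfsg.Agent.TensorWreath.Op
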