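import Cfsg.Agent.Lib.Forms.Max.TensorWreath.Symp.NonTame
import Cfsg.Agent.Lib.Forms.Max.TensorWreath.SympPlus.Ops

/-!
# Overgroups which are not tame have a pattern in two slots
-/

set_option autoImplicit false
set_option linter.unusedSectionVars false

namespace Cfsg.Agent.TensorWreath.Op

open Matrix Cfsg.Agent.Aschbacher Cfsg.Agent.Forms.Max Cfsg.Agent.Forms.Max.SympTools Cfsg.Agent.TensorWreath.Sy

variable {F : Type*} [Field F] [Fintype F] {k t : ℕ} {J : Matrix (Fin k) (Fin k) F} {a b : Fin k}
variable {Q : QuadraticForm F ((Fin (t + 1) → Fin k) → F)} {G : Subgroup (GL (Fin (t + 1) → Fin k) F)}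

theorem conj_sgl0 (x : GL (Fin k) F) (Z : Matrix (Fin k) (Fin k) F) (B : Matrix (Fin t → Fin k) (Fin t → Fin k) F) :
    conjMat (sgl (0 : Fin (t + 1)) x) (S 0 Z * lift B) = S 0 (conjMat x Z) * lift B := by
  rw [map_mul (conjMat _), show conjMat (sgl (0 : Fin (t + 1)) x) (S 0 Z) = S 0 (conjMat x Z) by
      rw [conjMat_apply, ← map_inv, sgl_coe, sgl_coe, ← map_mul, ← map_mul, ← conjMat_apply],
    show conjMat (sgl (0 : Fin (t + 1)) x) (lift B) = lift B from
      (conjMat_eq_iff_mul ..).2 (by rw [sgl_coe]; exact S0_lift_comm _ _)]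

theorem slot0_mul_zero {U V : Matrix (Fin k) (Fin k) F} (h : U * V = 0)
    (B B' : Matrix (Fin t → Fin k) (Fin t → Fin k) F) :
    S (0 : Fin (t + 1)) U * lift B * (S 0 V * lift B') = 0 := by
  rw [mul_assoc, ← mul_assoc (lift B), ← S0_lift_comm, mul_assoc (S 0 _) (lift B), ← mul_assoc, ← map_mul, h, map_zero,
    zero_mul]

variable (hd : Hyp J a b) {f : Fin k → F} (hf : Mv a b f)
include hd hf

/-- the coefficients of a slot value give patterns -/
theorem act_of_coeff (hG : Over J Q G) {s : Fin 3} (hs : s ≠ 0) (hs2 : s = 2 → f ≠ 0)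
    {B : Matrix (Fin t → Fin k) (Fin t → Fin k) F} (hns : ∀ r : F, B ≠ r • 1)
    (hB : Mem G (S 0 (sm J a b f s) * lift B)) : ∃ T, Act J a b f G T := by
  classical
  set Z := sm J a b f s
  have hZ : Z * Z = 0 := sm_sq hd hf hs
  have hzero := fun B B' : Matrix (Fin t → Fin k) (Fin t → Fin k) F => slot0_mul_zero hZ B B'
  let V : Submodule F (Matrix (Fin t → Fin k) (Fin t → Fin k) F) :=
    { carrier := {C | Mem G (S 0 Z * lift C)}
      zero_mem' := by rw [Set.mem_setOf_eq, map_zero, mul_zero]; exact mem_zero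
      add_mem' := fun {C D} hC hD => by rw [Set.mem_setOf_eq, map_add, mul_add]; exact hC.add hD (hzero _ _)
      smul_mem' := fun r C hC => by
        let A : AddSubgroup F :=
          { carrier := {u | Mem G (S 0 Z * lift (u • C))}
            zero_mem' := by rw [Set.mem_setOf_eq, zero_smul, map_zero, mul_zero]; exact mem_zero
            add_mem' := fun {u v} hu hv => by rw [Set.mem_setOf_eq, add_smul, map_add, mul_add]; exact hu.add hv (hzero _ _)
            neg_mem' := fun {u} hu => by rw [Set.mem_setOf_eq, neg_smul, map_neg, mul_neg]; exact hu.neg (hzero _ _) }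
        refine scal_all A (fun l hl => ?_) r
        obtain ⟨x, hx, hxe⟩ := torus_sm hd hf hs hl
        show Mem G _
        have h1 := (show Mem G (S 0 Z * lift C) from hC).conj (hG.base 0 x hx)
        rwa [conj_sgl0, hxe, map_smul, smul_mul_assoc, ← mul_smul_comm, ← map_smul] at h1 }
  have hV : Spc J V := by
    refine ⟨fun i h hh C hC => ?_⟩
    show Mem G _
    have h1 := (show Mem G (S 0 Z * lift C) from hC).conj (hG.base i.succ h hh)
    rw [map_mul (conjMat _), show conjMat (sgl i.succ h) (S 0 Z) = S (0 : Fin (t + 1)) Z from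
      (conjMat_eq_iff_mul ..).2 (by rw [sgl_coe]; exact S_comm (Fin.succ_ne_zero i) _ _)] at h1
    convert h1 using 2
    rw [conjMat_apply, conjMat_apply, map_mul, map_mul, ← liftW_sgl, ← map_inv liftW, liftW_coe, liftW_coe]
  obtain ⟨T, hT, hTm, i, hi⟩ := exists_pattern hd hf hV (show B ∈ V from hB) hns
  refine ⟨Fin.cons s T, ⟨1, one_ne_zero, ?_⟩, Fin.cases (by simpa using hs2) (by simpa using hT),
    0, i.succ, (Fin.succ_ne_zero i).symm, by simpa using hs, by simpa using hi⟩
  rw [one_smul, pat_cons]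
  exact hTm

/-- an overgroup which is not tame has a non-scalar coefficient -/
theorem exists_coeff (hG : Over J Q G) (hT : ¬TameU J a b G) :
    ∃ w ∈ W0 J (t + 1), ∃ s : Fin 3, s ≠ 0 ∧ (s = 2 → f ≠ 0) ∧
      ∃ B : Matrix (Fin t → Fin k) (Fin t → Fin k) F, (∀ r : F, B ≠ r • 1) ∧
        Mem (conjSub w G) (S 0 (sm J a b f s) * lift B) := by
  classical
  unfold TameU at hT
  push Not at hT
  obtain ⟨w, hw, z, hz, hzs, y, hya, hy⟩ := hT
  refine ⟨w, hw, ?_⟩
  set z' := w * z * w⁻¹
  have hz' : z' ∈ conjSub w G := conj_mem_conjSub hz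
  replace hG := hG.conjSub hw
  clear_value z'
  clear hz hw
  generalize hG' : TensorWreath.conjSub w G = G' at hG hz' ⊢
  clear hG'
  rename' G' => G
  set X := blk z'.val - 1 with hX
  have hz1 : blk z'.val = 1 + X := by rw [hX]; abel
  have hXrow : ∀ q, q ≠ a → X a q = blk z'.val a q := fun q hq => by
    rw [hX, Matrix.sub_apply, Matrix.one_apply_ne (Ne.symm hq), sub_zero]
  have hcorner : ∀ B, ∀ g ∈ G, blk g.val = 1 + Matrix.single a b B → Mem G (S 0 (sm J a b f 1) * lift B) := by
    intro B g hg hgv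
    refine ⟨g, hg, (blk (F := F) (m := k) (t := t)).injective ?_⟩
    rw [hgv, map_add, map_one]
    refine congrArg (1 + ·) (Matrix.ext fun p q => ?_)
    rw [blk_S0_lift, show sm J a b f 1 = Matrix.single a b (1 : F) from rfl, Matrix.single_apply, Matrix.single_apply,
      ite_smul, one_smul, zero_smul]
  by_cases hmid : ∃ q, q ≠ a ∧ q ≠ b ∧ ∀ r : F, blk z'.val a q ≠ r • 1
  · obtain ⟨q, hqa, hqb, hR⟩ := hmid
    set e : Fin k → F := Pi.single q 1 with hedef
    have hem : e ∈ mid F a b := single_mem_mid hqa hqb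
    obtain ⟨hea, heb⟩ := mem_mid.1 hem
    have he0 : e ≠ 0 := ne_single q
    have he : Mv a b e := ⟨hem, fun _ => he0⟩
    have h4 : 4 ≤ k := by
      by_contra h4
      exact he0 (mid_zero hd h4 hem)
    have hf0 : f ≠ 0 := hf.ne h4
    let ι : Matrix (Fin k) (Fin k) F → Matrix (Fin k) (Fin k) (Matrix (Fin t → Fin k) (Fin t → Fin k) F) :=
      fun m => m.map (algebraMap F _)
    have hιS : ∀ m : Matrix (Fin k) (Fin k) F, blk (S (0 : Fin (t + 1)) m) = ι m := blk_S_zero
    -- the commutator with a Siegel element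
    obtain ⟨s, hs, hss, hsr, hsc⟩ := sg_shp hd hem
    set Y := ι (s.val - 1) with hY
    have hsb : blk (sgl (0 : Fin (t + 1)) s).val = 1 + Y := by
      rw [hY, ← hιS, sgl_coe, map_sub, map_one, map_sub, map_one]; abel
    have hYs : Shp a b Y := fun x y hxy => by simp only [hY, ι, Matrix.map_apply, hss x y hxy, map_zero]
    set Λ := ∑ r, phi J e r • X r b with hΛ
    set R := X a q with hRdef
    set c0 := R + Λ with hc0
    have hdiff : (X * Y) a b - (Y * X) a b = -c0 := by
      have e1 : c0 = ∑ p, (e p • X a p + phi J e p • X p b) := by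
        rw [hc0, hΛ, Finset.sum_add_distrib]
        congr 1
        rw [Finset.sum_eq_single_of_mem q (Finset.mem_univ q) fun p _ hp => by simp [hedef, hp]]
        simp [hedef, hRdef]
      rw [Matrix.mul_apply, Matrix.mul_apply, ← Finset.sum_sub_distrib, e1, ← Finset.sum_neg_distrib]
      refine Finset.sum_congr rfl fun p _ => ?_
      rcases eq_or_ne p a with rfl | hpa
      · rw [hzs p p (by rintro (⟨-, h⟩ | ⟨h, -⟩); exacts [h rfl, hd.hab h]), hYs p p
          (by rintro (⟨-, h⟩ | ⟨h, -⟩); exacts [h rfl, hd.hab h])]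
        simp [hea, phi_at_a hd, heb]
      rcases eq_or_ne p b with rfl | hpb
      · rw [hzs p p (by rintro (⟨h, -⟩ | ⟨-, h⟩); exacts [hd.hab h.symm, h rfl]), hYs p p
          (by rintro (⟨h, -⟩ | ⟨-, h⟩); exacts [hd.hab h.symm, h rfl])]
        simp [heb, phi_at_b hd, hea]
      simp only [hY, ι, Matrix.map_apply, hsr p hpb, hsc p hpa]
      rw [← Algebra.commutes, ← Algebra.smul_def, ← Algebra.smul_def, neg_smul]
      abel
    have hC : Mem G (S 0 (sm J a b f 1) * lift (-c0)) := by
      set g := z' * sgl 0 s * z'⁻¹ * (sgl 0 s)⁻¹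
      have hg : g ∈ G := mul_mem (mul_mem (mul_mem hz' (hG.base 0 _ hs)) (inv_mem hz')) (inv_mem (hG.base 0 _ hs))
      have e1 : blk g.val * ((1 + Y) * (1 + X)) = (1 + X) * (1 + Y) := by
        rw [← hsb, ← hz1, ← map_mul, ← map_mul, ← map_mul, ← Units.val_mul, ← Units.val_mul, ← Units.val_mul]
        simp [g, mul_assoc]
      have e2 : (1 + Matrix.single a b (-c0)) * ((1 + Y) * (1 + X)) = (1 + X) * (1 + Y) := by
        have hXY := shp_mul_one hd.hab hzs hYs
        have hYX := shp_mul_one hd.hab hYs hzs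
        rw [← hdiff]
        set mXY := (X * Y) a b
        set mYX := (Y * X) a b
        rw [show Matrix.single a b (mXY - mYX) = Matrix.single a b mXY - Matrix.single a b mYX from
          map_sub (Matrix.singleAddMonoidHom a b) _ _]
        simp only [add_mul, sub_mul, mul_add, one_mul, mul_one, ← mul_assoc, single_mul_shp hd.hab hYs,
          single_mul_shp hd.hab hzs, zero_mul, add_zero, sub_zero, zero_add]
        rw [hXY, hYX]
        abel
      have hu' : IsUnit ((1 + Y) * (1 + X)) := by
        rw [← hsb, ← hz1, ← map_mul]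
        exact ((sgl (0 : Fin (t + 1)) s * z').isUnit).map _
      exact hcorner _ g hg (hu'.mul_right_cancel (e1.trans e2.symm))
    by_cases hCs : ∀ r : F, c0 ≠ r • 1
    · exact ⟨1, one_ne_zero, fun h => absurd h (by decide), -c0,
        fun r hr => hCs (-r) (by rw [neg_smul, ← hr, neg_neg]), hC⟩
    push Not at hCs
    obtain ⟨c, hc⟩ := hCs
    have hRns : ∀ r : F, R ≠ r • 1 := fun r => by rw [hRdef, hXrow q hqa]; exact hR r
    -- the commutator with a transvection
    set T := sgl (0 : Fin (t + 1)) (tvS hd e 1)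
    set N := ι (Nm J e) with hN
    have hTb : blk T.val = 1 + N := by
      rw [hN, ← hιS, sgl_coe, tvS_coe, one_smul, map_add, map_one, map_add, map_one]
    have hTb' : blk (T⁻¹).val = 1 - N := by
      rw [hN, ← hιS, show T⁻¹ = sgl (0 : Fin (t + 1)) (tvS hd e (-1)) by rw [← map_inv, tvS_inv hd], sgl_coe, tvS_coe,
        neg_one_smul, map_add, map_one, map_neg, map_add, map_one, map_neg, sub_eq_add_neg]
    have hNent : ∀ p r, N p r = algebraMap F _ (e p * phi J e r) := fun p r => rfl
    have hNX : ∀ p r, (N * X) p r = if r = b then e p • Λ else 0 := by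
      intro p r
      simp only [Matrix.mul_apply, hNent, ← Algebra.smul_def, ← smul_smul]
      rw [← Finset.smul_sum]
      split_ifs with hr
      · rw [hr, hΛ]
      · rw [Finset.sum_eq_zero fun s _ => ?_, smul_zero]
        by_cases hs : s = a
        · rw [hs, phi_at_a hd, heb, zero_smul]
        · rw [hzs s r (by rintro (⟨h, -⟩ | ⟨h, -⟩); exacts [hs h, hr h]), smul_zero]
    have hXN : ∀ p r, (X * N) p r = if p = a then phi J e r • R else 0 := by
      intro p r
      simp only [Matrix.mul_apply, hNent, ← Algebra.commutes, ← Algebra.smul_def]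
      split_ifs with hp
      · rw [hp, Finset.sum_eq_single_of_mem q (Finset.mem_univ q) fun s _ hs => by simp [hedef, hs]]
        simp [hedef, hRdef]
      · refine Finset.sum_eq_zero fun s _ => ?_
        by_cases hs : s = b
        · rw [hs, heb, zero_mul, zero_smul]
        · rw [hzs p s (by rintro (⟨h, -⟩ | ⟨h, -⟩); exacts [hp h, hs h]), smul_zero]
    have hNXN : N * X * N = 0 := by
      refine Matrix.ext fun p r => ?_
      rw [Matrix.mul_apply, Matrix.zero_apply]
      refine Finset.sum_eq_zero fun s _ => ?_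
      rw [hNX, hNent]
      split_ifs with hs
      · rw [hs, heb, zero_mul, map_zero, mul_zero]
      · rw [zero_mul]
    set D := N * X - X * N with hD
    have hQent : ∀ p r, Qm J (Pi.single a 1) e p r =
        (if p = a then phi J e r else 0) + (if r = b then e p else 0) := fun p r => by
      simp only [Qm, Matrix.sub_apply, vecMulVec_apply, phi_a hd, Pi.neg_apply, Pi.single_apply]
      split_ifs <;> ring
    have hDs : Shp a b D := by
      intro p r hpr
      rw [hD, Matrix.sub_apply, hNX, hXN]
      push Not at hpr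
      by_cases hpa : p = a
      · have hr := hpr.1 hpa
        rw [if_neg (fun h : r = b => hd.hab (hr.symm.trans h)), if_pos hpa, hr, phi_at_a hd, heb, zero_smul, sub_self]
      · rw [if_neg hpa, sub_zero]
        split_ifs with hr
        · rw [hpr.2 hr, heb, zero_smul]
        · rfl
    set g := T * z' * T⁻¹ * z'⁻¹
    have hTG : T ∈ G := hG.base 0 _ (tvS_mem hd _ _)
    have hgG : g ∈ G := mul_mem (mul_mem (mul_mem hTG hz') (inv_mem hTG)) (inv_mem hz')
    set σ := -((D * X) a b)
    have hgb : blk g.val = 1 + D + Matrix.single a b σ := by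
      have e1 : blk g.val * (1 + X) = (1 + N) * (1 + X) * (1 - N) := by
        rw [← hz1, ← hTb, ← hTb', ← map_mul, ← map_mul, ← map_mul, ← Units.val_mul, ← Units.val_mul, ← Units.val_mul]
        simp [g, mul_assoc]
      have e2 : (1 + D + Matrix.single a b σ) * (1 + X) = (1 + N) * (1 + X) * (1 - N) := by
        have hNN : N * N = 0 := by rw [hN, ← hιS, ← map_mul, ← map_mul, Nm_mul_self hd, map_zero, map_zero]
        have hDX := shp_mul_one hd.hab hDs hzs
        simp only [σ, add_mul, mul_add, mul_sub, one_mul, mul_one, single_mul_shp hd.hab hzs, add_zero, hNN, hNXN,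
          sub_zero]
        set mDX := (D * X) a b
        rw [hDX, show Matrix.single a b (-mDX) = -Matrix.single a b mDX from
          map_neg (Matrix.singleAddMonoidHom a b) _, hD]
        abel
      exact ((z'.isUnit.map (blk (F := F) (m := k) (t := t))).mul_right_cancel (by rw [hz1, e1, e2]))
    -- removing the scalar part by another slot
    obtain ⟨i, h, hh, hmov⟩ := exists_moved hd hf hRns
    set v := sgl i h with hv
    set R' := conjMat v R - R with hR'
    set s1 := sgl (Fin.succ i) h with hs1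
    have hs1b : ∀ M, blk (conjMat s1 M) = (blk M).map (conjMat v) := fun M => by
      ext x y : 1
      rw [conjMat_apply, hs1, ← liftW_sgl, ← map_inv, liftW_coe, liftW_coe, map_mul, map_mul, blk_lift, blk_lift,
        Matrix.mul_diagonal, Matrix.diagonal_mul, Matrix.map_apply, hv, conjMat_apply]
    set E0 := D.map (conjMat v) - D with hE0
    have hDent : ∀ p r, E0 p r = Qm J (Pi.single a 1) e p r • -R' := by
      intro p r
      have hD' : D p r = Qm J (Pi.single a 1) e p r • -R + (if r = b then e p * c else 0) • 1 := by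
        rw [hD, Matrix.sub_apply, hNX, hXN, hQent, eq_sub_of_add_eq' hc]
        split_ifs <;> module
      rw [hE0, Matrix.sub_apply, Matrix.map_apply, hD', map_add, map_smul, map_smul, map_one, map_neg, hR']
      module
    have hE0s : Shp a b E0 := fun p r hpr => by
      rw [hE0, Matrix.sub_apply, Matrix.map_apply, hDs p r hpr, map_zero, sub_zero]
    set σv := conjMat v σ
    set g2 := s1 * g * s1⁻¹ * g⁻¹
    have hg2G : g2 ∈ G := mul_mem (mul_mem (mul_mem (hG.base _ _ hh) hgG) (inv_mem (hG.base _ _ hh))) (inv_mem hgG)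
    set A := D + Matrix.single a b σ with hA
    have hAs : Shp a b A := fun p r hpr => by
      rw [hA, Matrix.add_apply, hDs p r hpr, Matrix.single_apply, if_neg, add_zero]
      rintro ⟨rfl, rfl⟩
      exact hpr (Or.inl ⟨rfl, hd.hab.symm⟩)
    set m := σv - σ - (E0 * A) a b with hm
    have hg2b : blk g2.val = 1 + (E0 + Matrix.single a b m) := by
      have hgb' : blk g.val = 1 + A := by rw [hgb, hA, add_assoc]
      have e1 : blk g2.val * (1 + A) = (1 + A).map (conjMat v) := by
        rw [← hgb', ← hs1b, conjMat_units, ← map_mul, ← Units.val_mul]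
        simp [g2, mul_assoc]
      have e2 : (1 + (E0 + Matrix.single a b m)) * (1 + A) = (1 + A).map (conjMat v) := by
        have hmap : (1 + A).map (conjMat v) = 1 + (D.map (conjMat v) + Matrix.single a b σv) := by
          ext p r : 1
          simp only [Matrix.map_apply, Matrix.add_apply, hA, map_add, Matrix.one_apply, Matrix.single_apply, σv]
          split_ifs <;> simp
        have hEA := shp_mul_one hd.hab hE0s hAs
        rw [hmap]
        simp only [add_mul, mul_add, one_mul, mul_one, single_mul_shp hd.hab hAs, add_zero]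
        set mEA := (E0 * A) a b
        rw [hEA, hm, show Matrix.single a b (σv - σ - mEA) =
            Matrix.single a b σv - Matrix.single a b σ - Matrix.single a b mEA by
          ext p r : 1
          simp only [Matrix.sub_apply, Matrix.single_apply]
          split_ifs <;> simp, hA, hE0]
        abel
      exact ((g.isUnit.map (blk (F := F) (m := k) (t := t))).mul_right_cancel (by rw [hgb', e1, e2]))
    set QQ := Qm J (Pi.single a 1) e with hQQ
    set Na := Matrix.single a b (1 : F)
    have hg2v : g2.val = 1 + (S 0 QQ * lift (-R') + S 0 Na * lift m) := by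
      refine (blk (F := F) (m := k) (t := t)).injective ?_
      rw [hg2b, map_add, map_one, map_add]
      congr 2
      · refine Matrix.ext fun p r => ?_
        rw [blk_S0_lift, hDent]
      · refine Matrix.ext fun p r => ?_
        rw [blk_S0_lift]
        simp only [Na, Matrix.single_apply, ite_smul, one_smul, zero_smul]
    -- separating the pair part by a shear
    obtain ⟨e', he'm, he'e, he'0, hee'⟩ :
        ∃ e' ∈ mid F a b, frm J e' e = 0 ∧ e' ≠ 0 ∧ e + e' ≠ 0 := by
      rcases hd.ch with h2 | h6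
      · refine ⟨e, hem, hd.sp.alt e, he0, fun h0 => ?_⟩
        rw [← two_smul F, smul_eq_zero] at h0
        exact h0.elim h2 he0
      · obtain ⟨g, hg, hge, hgs⟩ := exists_orth_mid hd (by omega) e
        exact ⟨g, hg, hge, fun h0 => hgs (h0 ▸ zero_mem _), fun h0 => hgs (by
          rw [eq_neg_of_add_eq_zero_right h0]; exact neg_mem (Submodule.mem_span_singleton_self _))⟩
    obtain ⟨x, hx, hxa, -, hxe⟩ := exists_mid_move hd hem (add_mem hem he'm) he0 hee'
    obtain ⟨ea, eb⟩ := mem_mid.1 he'm
    have he'M : Mv a b e' := ⟨he'm, fun _ => he'0⟩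
    have hNQ : Na * QQ = 0 ∧ QQ * Na = 0 := by
      have h := Nm_a_Q hd he
      rw [Nm_a hd, neg_mul, mul_neg, neg_eq_zero, neg_eq_zero] at h
      exact h
    have hNN : Na * Na = 0 := Matrix.single_mul_single_of_ne _ _ _ _ hd.hab.symm _
    set M := S (0 : Fin (t + 1)) QQ * lift (-R') + S 0 Na * lift m with hM
    have hMM : M * M = 0 := by
      simp only [hM, add_mul, mul_add, slot0_mul_zero (Qaf_sq hd he), slot0_mul_zero hNN, slot0_mul_zero hNQ.1,
        slot0_mul_zero hNQ.2, add_zero, QQ]
    have hxN : conjMat x Na = Na := by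
      simp only [Na]
      rw [← neg_neg (Matrix.single a b (1 : F)), ← Nm_a hd, map_neg, conj_Nm hd hx, hxa]
    set Q' := Qm J (Pi.single a 1) (e + e') with hQ'
    have hxM : conjMat (sgl (0 : Fin (t + 1)) x) M = S 0 Q' * lift (-R') + S 0 Na * lift m := by
      rw [hM, map_add, conj_sgl0, conj_sgl0, hxN, conj_Qm hd hx, hxa, hxe]
    have hQ'Q : Q' * QQ = 0 := by
      refine Matrix.ext_iff_mulVec.2 fun u => ?_
      have hee : frm J e (e + e') = 0 := by rw [add_right hd.sp, hd.sp.alt, comm_zero hd.sp he'e, add_zero]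
      rw [← mulVec_mulVec, zero_mulVec, hQQ, hQ', Qm_mulVec hd, Qm_mulVec hd, sub_left hd.sp, sub_left hd.sp,
        hd.sp.smul, hd.sp.smul, hd.sp.smul, hd.sp.smul, hee, hd.sp.alt, comm_zero hd.sp (frm_af hd he),
        add_right hd.sp (Pi.single a 1), frm_af hd he, frm_af hd he'M]
      simp
    have he'' : Mv a b (e + e') := ⟨add_mem hem he'm, fun _ => hee'⟩
    have hxMM : conjMat (sgl (0 : Fin (t + 1)) x) M * M = 0 := by
      rw [hxM, hM]
      have hQ'N : Q' * Na = 0 := by
        have h := (Nm_a_Q hd he'').2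
        rwa [Nm_a hd, mul_neg, neg_eq_zero] at h
      simp only [add_mul, mul_add, slot0_mul_zero hQ'Q, slot0_mul_zero hNN, slot0_mul_zero hNQ.1,
        slot0_mul_zero hQ'N, add_zero]
    have hfin := (show Mem G M from ⟨g2, hg2G, hg2v⟩).diff (hG.base 0 x hx) hMM hxMM
    have hval : conjMat (sgl (0 : Fin (t + 1)) x) M - M = S 0 (Qm J (Pi.single a 1) e') * lift (-R') := by
      rw [hxM, hM, hQ', hQQ, Qm_add_right hd, map_add, add_mul]
      abel
    rw [hval] at hfin
    obtain ⟨x', hx', hx'a, -, hx'e⟩ := exists_mid_move hd he'm hf.mem he'0 hf0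
    have h5 := hfin.conj (hG.base 0 x' hx')
    rw [conj_sgl0, conj_Qm hd hx', hx'a, hx'e] at h5
    exact ⟨2, by decide, fun _ => hf0, -R', fun r hr => hmov (-r) (by rw [neg_smul, ← hr, neg_neg]), h5⟩
  -- the middle row is scalar
  push Not at hmid
  have hyb : y = b := by
    by_contra hyb
    obtain ⟨r, hr⟩ := hmid y hya hyb
    exact hy r hr
  subst hyb
  choose! r hr using hmid
  let φ : Fin k → F := fun q => if q = a ∨ q = y then 0 else -r q
  obtain ⟨u, hu, hphi⟩ := exists_phi hd (φ := φ) (by simp [φ]) (by simp [φ])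
  obtain ⟨s, hs, hshp, hsr, -⟩ := sg_shp hd hu
  set U1 := z' * sgl 0 s with hU1
  have hsb : blk (sgl (0 : Fin (t + 1)) s).val - 1 = (s.val - 1).map (algebraMap F _) := by
    rw [sgl_coe, ← blk_S_zero, map_sub, map_one, map_sub, map_one]
  have hsS : Shp a y (blk (sgl (0 : Fin (t + 1)) s).val - 1) := fun p q hpq => by
    rw [hsb, Matrix.map_apply, hshp p q hpq, map_zero]
  obtain ⟨hU1s, hU1row⟩ := shp_mul hd.hab hzs hsS
  rw [← map_mul, ← Units.val_mul, ← hU1] at hU1s hU1row
  have h10 : ∀ q, q ≠ a → q ≠ y → blk U1.val a q = 0 := fun q hqa hqb => by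
    have e : blk (sgl (0 : Fin (t + 1)) s).val a q = ((s.val - 1) a q) • 1 := by
      have := congrFun (congrFun hsb a) q
      rw [Matrix.sub_apply, Matrix.one_apply_ne (Ne.symm hqa), sub_zero, Matrix.map_apply] at this
      rw [this, Algebra.algebraMap_eq_smul_one]
    rw [hU1row q hqa hqb, hr q hqa hqb, e, hsr q hqb, hphi, ← add_smul]
    simp [φ, hqa, hqb]
  have hU1m : U1 ∈ G := mul_mem hz' (hG.base 0 _ hs)
  have hcor := cor_of_shp hd (hG.iso hU1m) hU1s h10
  refine ⟨1, one_ne_zero, fun h => absurd h (by decide), blk U1.val a y, fun r' hr' => ?_, U1, hU1m, ?_⟩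
  swap
  · conv_lhs => rw [hcor, cor_coe, Nm_a hd, map_neg, map_neg, neg_mul_neg]
    rfl
  let W : Submodule F (Matrix (Fin t → Fin k) (Fin t → Fin k) F) := Submodule.span F {1}
  obtain ⟨d1, d2⟩ := shp_diag_aa hd.hab hzs
  obtain ⟨e1, e2⟩ := shp_diag_aa hd.hab hsS
  have h1 : blk U1.val a y - blk z'.val a y ∈ W := by
    rw [hU1, Units.val_mul, map_mul, Matrix.mul_apply, ← Finset.add_sum_erase _ _ (Finset.mem_univ y), e2, mul_one,
      add_sub_cancel_left]
    refine W.sum_mem fun p hp => ?_
    have hsp : blk (sgl (0 : Fin (t + 1)) s).val p y = (s.val - 1) p y • 1 := by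
      have := congrFun (congrFun hsb p) y
      rw [Matrix.sub_apply, Matrix.one_apply_ne (Finset.ne_of_mem_erase hp), sub_zero, Matrix.map_apply] at this
      rw [this, Algebra.algebraMap_eq_smul_one]
    rw [hsp, mul_smul_comm, mul_one]
    refine W.smul_mem _ ?_
    rcases eq_or_ne p a with rfl | hpa
    · rw [d1]; exact Submodule.mem_span_singleton_self _
    · rw [hr p hpa (Finset.ne_of_mem_erase hp)]; exact W.smul_mem _ (Submodule.mem_span_singleton_self _)
  obtain ⟨d, hd'⟩ := Submodule.mem_span_singleton.1 h1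
  refine hy (r' - d) ?_
  rw [sub_smul, ← hr', hd', sub_sub_cancel]

/-- an overgroup which is not tame has a pattern in two slots -/
theorem exists_act (hG : Over J Q G) (hT : ¬TameU J a b G) :
    ∃ w ∈ W0 J (t + 1), ∃ T, Act J a b f (conjSub w G) T := by
  obtain ⟨w, hw, s, hs, hs2, B, hns, hB⟩ := exists_coeff hd hf hG hT
  exact ⟨w, hw, act_of_coeff hd hf (hG.conjSub hw) hs hs2 hns hB⟩

end Cfsg.Agent.TensorWreath.Op
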