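import Cfsg.Agent.Lib.Forms.Max.TensorWreath.Symp.Slots

/-!
# A unipotent group of one slot and its commutant
-/

set_option autoImplicit false
set_option linter.unusedSectionVars false

namespace Cfsg.Agent.TensorWreath.Op

open Matrix Cfsg.Agent.Aschbacher Cfsg.Agent.Forms.Max Cfsg.Agent.Forms.Max.SympTools Cfsg.Agent.TensorWreath.Sy

variable {F : Type*} [Field F] [Fintype F] {k t : ℕ} {J : Matrix (Fin k) (Fin k) F} {a b : Fin k}

/-- the symmetrised pair operator -/
def Pm (J : Matrix (Fin k) (Fin k) F) (u w : Fin k → F) : Matrix (Fin k) (Fin k) F :=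
  vecMulVec u (phi J w) + vecMulVec w (phi J u)

theorem Pm_mulVec (u w v : Fin k → F) : Pm J u w *ᵥ v = frm J v w • u + frm J v u • w := by
  rw [Pm, add_mulVec, vecMulVec_mulVec, vecMulVec_mulVec, op_smul_eq_smul, op_smul_eq_smul, ← frm_eq, ← frm_eq]

/-- the root operators generating the unipotent group -/
def Gens (J : Matrix (Fin k) (Fin k) F) (a b : Fin k) (f : Fin k → F) : Set (Matrix (Fin k) (Fin k) F) :=
  {x | x = Nm J (Pi.single a 1) ∨ x = Nm J f ∨ (∃ u ∈ mid F a b, x = Pm J (Pi.single a 1) u) ∨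
    ∃ w ∈ mid F a b, frm J f w = 0 ∧ x = Pm J f w}

/-- the flag lowered by the generators -/
def fl (hd : Hyp J a b) (f : Fin k → F) : ℕ → Submodule F (Fin k → F)
  | 0 => ⊥
  | 1 => Submodule.span F {Pi.single a 1}
  | 2 => Submodule.span F {Pi.single a 1, f}
  | 3 => LinearMap.ker (form hd.sp (Pi.single a 1)) ⊓ LinearMap.ker (form hd.sp f)
  | 4 => LinearMap.ker (form hd.sp (Pi.single a 1))
  | _ => ⊤

variable (hd : Hyp J a b) {f : Fin k → F} (hf : Mv a b f)
include hd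

theorem mid_perp {u : Fin k → F} (hu : u ∈ mid F a b) :
    frm J u (Pi.single a 1) = 0 ∧ frm J (Pi.single a 1) u = 0 ∧ frm J u (Pi.single b 1) = 0 ∧
      frm J (Pi.single b 1) u = 0 := by
  obtain ⟨h1, h2⟩ := mem_mid.1 hu
  refine ⟨by rw [frm_a hd, h2, neg_zero], by rw [frm_a_left hd, h2], by rw [frm_b hd, h1],
    by rw [frm_b_left hd, h1, neg_zero]⟩

include hf

theorem fl_mono {i : ℕ} (hi : i < 5) : fl hd f i ≤ fl hd f (i + 1) := by
  obtain ⟨h1, h2, -, -⟩ := mid_perp hd hf.mem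
  have key : ∀ p, frm J p (Pi.single a 1) = 0 → frm J p f = 0 →
      p ∈ LinearMap.ker (form hd.sp (Pi.single a 1)) ⊓ LinearMap.ker (form hd.sp f) := fun p e1 e2 => ⟨e1, e2⟩
  rcases i with _ | _ | _ | _ | _ | i
  · exact bot_le
  · exact Submodule.span_mono (Set.singleton_subset_iff.2 (Set.mem_insert _ _))
  · refine Submodule.span_le.2 ?_
    rintro y (rfl | rfl)
    · exact key _ (hd.sp.alt _) h2
    · exact key _ h1 (hd.sp.alt _)
  · exact inf_le_left
  · exact le_top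
  · omega

/-- the elements lowering the flag -/
def unip : Subgroup (GL (Fin k) F) :=
  let M : Submonoid (GL (Fin k) F) :=
    { carrier := {g | g ∈ Sl J ∧ ∀ i < 5, ∀ x ∈ fl hd f (i + 1), g.val *ᵥ x - x ∈ fl hd f i}
      one_mem' := ⟨one_mem _, fun i _ x _ => by rw [Units.val_one, one_mulVec, sub_self]; exact zero_mem _⟩
      mul_mem' := fun {g h} hg hh => ⟨mul_mem hg.1 hh.1, fun i hi x hx => by
        have h1 := hh.2 i hi x hx
        have h2 : g.val *ᵥ (h.val *ᵥ x - x) ∈ fl hd f i := by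
          rcases Nat.eq_zero_or_pos i with rfl | h0
          · rw [show h.val *ᵥ x - x = 0 from (Submodule.mem_bot F).1 h1, mulVec_zero]; exact zero_mem _
          obtain ⟨i, rfl⟩ : ∃ l, i = l + 1 := ⟨i - 1, by omega⟩
          simpa using add_mem (fl_mono hd hf (by omega) (hg.2 i (by omega) _ h1)) h1
        have e : (g * h).val *ᵥ x - x = g.val *ᵥ (h.val *ᵥ x - x) + (g.val *ᵥ x - x) := by
          rw [Units.val_mul, ← mulVec_mulVec, mulVec_sub]; abel
        rw [e]
        exact add_mem h2 (hg.2 i hi x hx)⟩ }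
  { M with
    inv_mem' := fun {g} hg => by
      have h1 : g⁻¹ = g ^ (orderOf g - 1) := by
        refine inv_eq_of_mul_eq_one_right ?_
        rw [← pow_succ', Nat.sub_add_cancel (orderOf_pos g), pow_orderOf_eq_one]
      rw [h1]
      exact M.pow_mem hg _ }

theorem mem_unip {g : GL (Fin k) F} :
    g ∈ unip hd hf ↔ g ∈ Sl J ∧ ∀ i < 5, ∀ x ∈ fl hd f (i + 1), g.val *ᵥ x - x ∈ fl hd f i := Iff.rfl

theorem unip_nil {g : GL (Fin k) F} (hg : g ∈ unip hd hf) : (g.val - 1) ^ 5 = 0 := by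
  have key : ∀ n ≤ 5, ∀ x, (g.val - 1) ^ n *ᵥ x ∈ fl hd f (5 - n) := by
    intro n
    induction n with
    | zero => intro _ x; exact Submodule.mem_top
    | succ n ih =>
      intro hn x
      have h1 := (mem_unip hd hf).1 hg |>.2 (5 - (n + 1)) (by omega) ((g.val - 1) ^ n *ᵥ x)
        (by rw [show 5 - (n + 1) + 1 = 5 - n by omega]; exact ih (by omega) x)
      rw [pow_succ', ← mulVec_mulVec, sub_mulVec, one_mulVec]
      exact h1
  exact Matrix.ext_iff_mulVec.2 fun x => by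
    rw [zero_mulVec]
    exact (Submodule.mem_bot F).1 (key 5 le_rfl x)

/-- the generators are square zero -/
theorem gens_sq {x : Matrix (Fin k) (Fin k) F} (hx : x ∈ Gens J a b f) : x * x = 0 := by
  have key : ∀ u w : Fin k → F, frm J u w = 0 → Pm J u w * Pm J u w = 0 := fun u w h =>
    Matrix.ext_iff_mulVec.2 fun v => by
      rw [← mulVec_mulVec, zero_mulVec, Pm_mulVec, Pm_mulVec, hd.sp.add, hd.sp.add, hd.sp.smul, hd.sp.smul, hd.sp.smul,
        hd.sp.smul, h, comm_zero hd.sp h, hd.sp.alt, hd.sp.alt]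
      simp
  rcases hx with rfl | rfl | ⟨u, hu, rfl⟩ | ⟨w, hw, hfw, rfl⟩
  · exact Nm_mul_self hd _
  · exact Nm_mul_self hd _
  · exact key _ _ (mid_perp hd hu).2.1
  · exact key _ _ hfw

/-- the generators come from the unipotent group -/
theorem exists_gen {x : Matrix (Fin k) (Fin k) F} (hx : x ∈ Gens J a b f) : ∃ g ∈ unip hd hf, g.val = 1 + x := by
  obtain ⟨g, hg, hgv⟩ : ∃ g ∈ Sl J, g.val = 1 + x := by
    have sieg : ∀ u w : Fin k → F, frm J u w = 0 → ∃ g ∈ Sl J, g.val = 1 + Pm J u w := fun u w h => by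
      obtain ⟨g, hg, hgx⟩ := exists_siegel hd.sp h
      refine ⟨g, tvGroup_le hd hg, Matrix.ext_iff_mulVec.2 fun v => ?_⟩
      rw [hgx, add_mulVec, one_mulVec, Pm_mulVec]
      abel
    rcases hx with rfl | rfl | ⟨u, hu, rfl⟩ | ⟨w, hw, hfw, rfl⟩
    · exact ⟨tvS hd _ 1, tvS_mem hd _ _, by rw [tvS_coe, one_smul]⟩
    · exact ⟨tvS hd _ 1, tvS_mem hd _ _, by rw [tvS_coe, one_smul]⟩
    · exact sieg _ _ (mid_perp hd hu).2.1
    · exact sieg _ _ hfw
  refine ⟨g, (mem_unip hd hf).2 ⟨hg, ?_⟩, hgv⟩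
  obtain ⟨h1, h2, -, -⟩ := mid_perp hd hf.mem
  have hA : ∀ r : F, r • (Pi.single a 1 : Fin k → F) ∈ fl hd f 1 := fun r =>
    Submodule.smul_mem _ _ (Submodule.mem_span_singleton_self _)
  have hA2 : ∀ r : F, r • (Pi.single a 1 : Fin k → F) ∈ fl hd f 2 := fun r => fl_mono hd hf (by omega) (hA r)
  have hF2 : ∀ r : F, r • f ∈ fl hd f 2 := fun r => Submodule.smul_mem _ _ (Submodule.subset_span (by simp))
  have hA3 : ∀ r : F, r • (Pi.single a 1 : Fin k → F) ∈ fl hd f 3 := fun r => fl_mono hd hf (by omega) (hA2 r)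
  have hA4 : ∀ r : F, r • (Pi.single a 1 : Fin k → F) ∈ fl hd f 4 := fun r => fl_mono hd hf (by omega) (hA3 r)
  have hF3 : ∀ r : F, r • f ∈ fl hd f 3 := fun r => fl_mono hd hf (by omega) (hF2 r)
  have hF4 : ∀ r : F, r • f ∈ fl hd f 4 := fun r => fl_mono hd hf (by omega) (hF3 r)
  intro i hi v hv
  rw [hgv, add_mulVec, one_mulVec, add_sub_cancel_left]
  have hv4 : i ≤ 3 → frm J v (Pi.single a 1) = 0 := fun hi' => by
    rcases i with _ | _ | _ | _ | i
    · exact fl_mono hd hf (by omega : 3 < 5) (fl_mono hd hf (by omega : 2 < 5) (fl_mono hd hf (by omega : 1 < 5) hv))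
    · exact fl_mono hd hf (by omega : 3 < 5) (fl_mono hd hf (by omega : 2 < 5) hv)
    · exact fl_mono hd hf (by omega : 3 < 5) hv
    · exact hv
    · omega
  have hv3 : i ≤ 2 → frm J v f = 0 := fun hi' => by
    rcases i with _ | _ | _ | i
    · exact (fl_mono hd hf (by omega : 2 < 5) (fl_mono hd hf (by omega : 1 < 5) hv)).2
    · exact (fl_mono hd hf (by omega : 2 < 5) hv).2
    · exact hv.2
    · omega
  rcases hx with rfl | rfl | ⟨u, hu, rfl⟩ | ⟨w, hw, hfw, rfl⟩
  · rw [Nm_mulVec]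
    rcases (by omega : i ≤ 3 ∨ i = 4) with h | rfl
    · rw [hv4 h, zero_smul]; exact zero_mem _
    · exact hA4 _
  · rw [Nm_mulVec]
    rcases (by omega : i ≤ 2 ∨ i = 3 ∨ i = 4) with h | rfl | rfl
    · rw [hv3 h, zero_smul]; exact zero_mem _
    · exact hF3 _
    · exact hF4 _
  · obtain ⟨u1, u2, -, -⟩ := mid_perp hd hu
    rw [Pm_mulVec]
    rcases (by omega : i = 0 ∨ i = 1 ∨ i = 2 ∨ i = 3 ∨ i = 4) with rfl | rfl | rfl | rfl | rfl
    · obtain ⟨r, rfl⟩ := Submodule.mem_span_singleton.1 hv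
      rw [hd.sp.smul, hd.sp.smul, u2, hd.sp.alt]
      simp
    · rw [hv4 (by omega), zero_smul, add_zero]; exact hA _
    · rw [hv4 (by omega), zero_smul, add_zero]; exact hA2 _
    · rw [hv4 (by omega), zero_smul, add_zero]; exact hA3 _
    · refine add_mem (hA4 _) (Submodule.smul_mem _ _ ?_)
      exact u1
  · obtain ⟨w1, w2, -, -⟩ := mid_perp hd hw
    rw [Pm_mulVec]
    rcases (by omega : i = 0 ∨ i = 1 ∨ i = 2 ∨ i = 3 ∨ i = 4) with rfl | rfl | rfl | rfl | rfl
    · obtain ⟨r, rfl⟩ := Submodule.mem_span_singleton.1 hv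
      rw [hd.sp.smul, hd.sp.smul, w2, h2]
      simp
    · have hvw : frm J v w = 0 := by
        obtain ⟨r, s, rfl⟩ := Submodule.mem_span_pair.1 hv
        rw [hd.sp.add, hd.sp.smul, hd.sp.smul, w2, hfw, mul_zero, mul_zero, add_zero]
      rw [hvw, hv3 (by omega), zero_smul, zero_smul, add_zero]; exact zero_mem _
    · rw [hv3 (by omega), zero_smul, add_zero]; exact hF2 _
    · refine add_mem (hF3 _) (Submodule.smul_mem _ _ ?_)
      exact ⟨w1, (comm_zero hd.sp hfw)⟩
    · refine add_mem (hF4 _) (Submodule.smul_mem _ _ ?_)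
      exact w1

/-- the commutant of the generators -/
theorem commutant {X : Matrix (Fin k) (Fin k) F} (hX : ∀ x ∈ Gens J a b f, x * X = X * x) {q : Fin k}
    (hq : f q ≠ 0 ∨ f = 0) :
    X = X a a • (1 : Matrix (Fin k) (Fin k) F) + X a b • Matrix.single a b 1 + ((f q)⁻¹ * X q b) • Qm J (Pi.single a 1) f := by
  set A : Fin k → F := Pi.single a 1 with hA
  set B : Fin k → F := Pi.single b 1 with hB
  set p : Fin k → F := X *ᵥ B - (X b b) • B - (X a b) • A with hp
  have mp : ∀ u ∈ mid F a b, frm J u A = 0 ∧ frm J A u = 0 ∧ frm J u B = 0 ∧ frm J B u = 0 :=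
    fun u hu => mid_perp hd hu
  have hba : frm J B A = -1 := frm_ba hd
  have hXB : X *ᵥ B = (X b b) • B + (X a b) • A + p := by rw [hp]; abel
  have hpm : p ∈ mid F a b := mem_mid.2 ⟨by simp [hp, A, B, hd.hab], by simp [hp, A, B, hd.hab.symm]⟩
  obtain ⟨pa, ap, pb, bp⟩ := mp _ hpm
  have hfa : ∀ x ∈ Gens J a b f, ∀ v, x *ᵥ (X *ᵥ v) = X *ᵥ (x *ᵥ v) := fun x hx v => by
    rw [mulVec_mulVec, mulVec_mulVec, hX x hx]
  have hXBa : frm J (X *ᵥ B) A = -(X b b) := by
    rw [hXB, hd.sp.add, hd.sp.add, hd.sp.smul, hd.sp.smul, hba, hd.sp.alt, pa]; ring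
  have e1 := hfa _ (Or.inl rfl) B
  rw [Nm_mulVec, Nm_mulVec, hXBa, hba, mulVec_smul] at e1
  have hXA : X *ᵥ A = (X b b) • A := by
    rw [neg_one_smul, neg_smul, neg_inj] at e1; exact e1.symm
  have hab : X b b = X a a := by
    have := congrFun hXA a
    rw [hA, mulVec_single_one] at this
    simpa [Matrix.col_apply] using this.symm
  have hXu : ∀ u ∈ mid F a b, X *ᵥ u = X b b • u + frm J u p • A := by
    intro u hu
    obtain ⟨ua, au, ub, bu⟩ := mp _ hu
    have e2 := hfa _ (Or.inr (Or.inr (Or.inl ⟨u, hu, rfl⟩))) B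
    rw [Pm_mulVec, Pm_mulVec, hXBa, hba, bu, zero_smul, zero_add, neg_one_smul, mulVec_neg] at e2
    have e3 : frm J (X *ᵥ B) u = frm J p u := by
      rw [hXB, hd.sp.add, hd.sp.add, hd.sp.smul, hd.sp.smul, bu, au]; ring
    rw [e3, neg_smul] at e2
    rw [hd.sp.skew u p, ← neg_neg (X *ᵥ u), ← e2]
    simp only [neg_add_rev, neg_neg, neg_smul]
    rw [add_comm]
  -- the middle vector is a multiple of `f`
  obtain ⟨fa, af, fb, bf⟩ := mp _ hf.mem
  have hpf : frm J p f = 0 := by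
    have e2 := hfa _ (Or.inr (Or.inl rfl)) B
    rw [Nm_mulVec, Nm_mulVec, bf, zero_smul, mulVec_zero, hXB, hd.sp.add, hd.sp.add, hd.sp.smul, hd.sp.smul, bf, af] at e2
    rcases eq_or_ne f 0 with h0 | h0
    · rw [h0, zero_right hd.sp]
    · simpa [h0] using e2
  have hpw : ∀ w ∈ mid F a b, frm J f w = 0 → f ≠ 0 → frm J p w = 0 := by
    intro w hw hfw h0
    obtain ⟨wa, aw, wb, bw⟩ := mp _ hw
    have e2 := hfa _ (Or.inr (Or.inr (Or.inr ⟨w, hw, hfw, rfl⟩))) B
    rw [Pm_mulVec, Pm_mulVec, bw, bf, zero_smul, zero_smul, add_zero, mulVec_zero, hXB] at e2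
    simp only [hd.sp.add, hd.sp.smul, bw, aw, bf, af, hpf, mul_zero, zero_add, zero_smul, add_zero] at e2
    exact (smul_eq_zero.1 e2).resolve_right h0
  have hpc : p = ((f q)⁻¹ * X q b) • f := by
    rcases eq_or_ne f 0 with h0 | h0
    · rw [h0, smul_zero]
      rcases hd.hk with h2 | h4
      · funext i
        have : i = a ∨ i = b := by
          subst h2; have := hd.hab; fin_cases i <;> fin_cases a <;> fin_cases b <;> simp_all
        rcases this with rfl | rfl
        exacts [(mem_mid.1 hpm).1, (mem_mid.1 hpm).2]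
      · exact absurd h0 (hf.ne h4)
    obtain ⟨g, hg, hgf⟩ : ∃ g ∈ mid F a b, frm J f g = 1 := by
      by_contra hc
      push Not at hc
      refine h0 (mid_nondeg hd f hf.mem fun y hy => ?_)
      by_contra hne
      exact hc ((frm J f y)⁻¹ • y) ((mid F a b).smul_mem _ hy) (by rw [smul_right hd.sp, inv_mul_cancel₀ hne])
    set p' := p - frm J p g • f with hp'
    have hp'0 : p' = 0 := mid_nondeg hd p' (sub_mem hpm ((mid F a b).smul_mem _ hf.mem)) fun y hy => by
      have hw := hpw (y - frm J f y • g) (sub_mem hy ((mid F a b).smul_mem _ hg))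
        (by rw [sub_right hd.sp, smul_right hd.sp, hgf, mul_one, sub_self]) h0
      rw [sub_right hd.sp, smul_right hd.sp] at hw
      rw [hp', sub_left hd.sp, hd.sp.smul]
      linear_combination hw
    rw [hp', sub_eq_zero] at hp'0
    have hq' := hq.resolve_right h0
    have hqa : q ≠ a := fun e => hq' (e ▸ (mem_mid.1 hf.mem).1)
    have hqb : q ≠ b := fun e => hq' (e ▸ (mem_mid.1 hf.mem).2)
    have h3 : p q = X q b := by simp [hp, A, B, hqa, hqb]
    rw [hp'0, Pi.smul_apply, smul_eq_mul] at h3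
    rw [hp'0, ← h3, ← mul_assoc, mul_comm (f q)⁻¹, mul_assoc, inv_mul_cancel₀ hq', mul_one]
  set c := (f q)⁻¹ * X q b
  refine Matrix.ext_iff_mulVec.2 fun v => ?_
  set u := v - v a • A - v b • B with hu
  have hum : u ∈ mid F a b := mem_mid.2 ⟨by simp [hu, A, B, hd.hab], by simp [hu, A, B, hd.hab.symm]⟩
  obtain ⟨ua, au, ub, bu⟩ := mp _ hum
  have hv : v = u + v a • A + v b • B := by rw [hu]; abel
  have hsing : Matrix.single a b (1 : F) *ᵥ v = v b • A := by
    rw [← neg_neg (Matrix.single a b (1 : F)), ← Nm_a hd, neg_mulVec, Nm_mulVec, frm_a hd, neg_smul, neg_neg]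
  have hvf : frm J v f = frm J u f := by
    conv_lhs => rw [hv, hd.sp.add, hd.sp.add, hd.sp.smul, hd.sp.smul, af, bf]
    ring
  rw [add_mulVec, add_mulVec, smul_mulVec, smul_mulVec, smul_mulVec, one_mulVec, hsing, Qm_mulVec hd, hvf,
    show frm J v A = -(v b) from frm_a hd v]
  conv_lhs => rw [hv, mulVec_add, mulVec_add, mulVec_smul, mulVec_smul, hXu u hum, hXA, hXB, hpc]
  rw [smul_right hd.sp, hab]
  conv_rhs => arg 1; arg 1; rw [hv]
  module

end Cfsg.Agent.TensorWreath.Op
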