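import Cfsg.Agent.Lib.Forms.Max.TensorWreath.SympPlus.Commutant
import Cfsg.Agent.Lib.Forms.Max.TensorWreath.Symp.Descent

/-!
# Stable spaces contain patterns
-/

set_option autoImplicit false
set_option linter.unusedSectionVars false

namespace Cfsg.Agent.TensorWreath.Op

open Matrix Cfsg.Agent.Aschbacher Cfsg.Agent.Forms.Max Cfsg.Agent.Forms.Max.SympTools Cfsg.Agent.TensorWreath.Sy

variable {F : Type*} [Field F] [Fintype F] {k t : ℕ} {J : Matrix (Fin k) (Fin k) F} {a b : Fin k}

theorem pure_conj_mem {V : Submodule F (Matrix (Fin t → Fin k) (Fin t → Fin k) F)} (hV : Spc J V)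
    {c : Fin t → GL (Fin k) F} (hc : ∀ i, c i ∈ Sl J) {Y : Matrix (Fin t → Fin k) (Fin t → Fin k) F} (hY : Y ∈ V) :
    conjMat (pureGL c) Y ∈ V := by
  classical
  suffices ∀ s : Finset (Fin t), conjMat (pureGL fun i => if i ∈ s then c i else 1) Y ∈ V by
    simpa using this Finset.univ
  intro s
  induction s using Finset.induction with
  | empty =>
    simp only [Finset.notMem_empty, if_false]
    rw [show (fun _ : Fin t => (1 : GL (Fin k) F)) = 1 from rfl, pureGL_one]
    simpa [conjMat_apply] using hY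
  | @insert i s hi ih =>
    have e : (fun l => if l ∈ insert i s then c l else 1) = Pi.mulSingle i (c i) * fun l => if l ∈ s then c l else 1 := by
      funext l
      rcases eq_or_ne l i with rfl | hl
      · simp [hi]
      · simp [hl]
    rw [e, ← pureGL_mul, conjMat_mul, ← sgl_eq]
    exact hV.conj i _ (hc i) _ ih

theorem rank_add_le {m : Type*} [Fintype m] (X Y : Matrix m m F) : (X + Y).rank ≤ X.rank + Y.rank := by
  classical
  unfold Matrix.rank
  refine le_trans ?_ (Submodule.finrank_add_le_finrank_add_finrank _ _)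
  refine Submodule.finrank_mono ?_
  rintro _ ⟨v, rfl⟩
  show (X + Y) *ᵥ v ∈ _
  rw [add_mulVec]
  exact add_mem (Submodule.mem_sup_left ⟨v, rfl⟩) (Submodule.mem_sup_right ⟨v, rfl⟩)

theorem rank_neg_eq {m : Type*} [Fintype m] (X : Matrix m m F) : (-X).rank = X.rank := by
  classical
  unfold Matrix.rank
  rw [show (-X).mulVecLin = -X.mulVecLin from LinearMap.ext fun v => neg_mulVec v X, LinearMap.range_neg]

variable (hd : Hyp J a b) {f : Fin k → F} (hf : Mv a b f)
include hd hf

/-- square zero slot operators of small rank only commute up to nothing -/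
theorem gen_rank {x : Matrix (Fin k) (Fin k) F} (hx : x ∈ Gens J a b f) (j : Fin (t + 1)) :
    (S j x).rank ≤ 2 * k ^ t := by
  have h1 : ∀ u w : Fin k → F, (S j (vecMulVec u (phi J w))).rank ≤ k ^ t := fun u w => rank_S_le j _ _
  have h2 : ∀ u w : Fin k → F, (S j (Pm J u w)).rank ≤ 2 * k ^ t := fun u w => by
    rw [Pm, map_add, two_mul]
    exact (rank_add_le _ _).trans (add_le_add (h1 u w) (h1 w u))
  rcases hx with rfl | rfl | ⟨u, hu, rfl⟩ | ⟨w, hw, hfw, rfl⟩
  · exact (h1 _ _).trans (Nat.le_mul_of_pos_left _ two_pos)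
  · exact (h1 _ _).trans (Nat.le_mul_of_pos_left _ two_pos)
  · exact h2 _ _
  · exact h2 _ _

/-- a non-scalar element commuting with the generators in all slots -/
theorem exists_fixed {V : Submodule F (Matrix (Fin t → Fin k) (Fin t → Fin k) F)} (hV : Spc J V)
    {Y : Matrix (Fin t → Fin k) (Fin t → Fin k) F} (hY : Y ∈ V) (hns : ∀ r : F, Y ≠ r • 1) :
    ∃ Y' ∈ V, (∀ r : F, Y' ≠ r • 1) ∧ ∀ (j : Fin t), ∀ x ∈ Gens J a b f, S j x * Y' = Y' * S j x := by
  classical
  obtain ⟨p, hp⟩ := CharP.exists F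
  haveI : Fact p.Prime := ⟨(CharP.char_is_prime_or_zero F p).resolve_right (CharP.char_ne_zero_of_finite F p)⟩
  haveI : Nonempty (Fin k) := ⟨a⟩
  let W : Submodule F V := (Submodule.span F {(1 : Matrix (Fin t → Fin k) (Fin t → Fin k) F)}).comap V.subtype
  let U := Fin t → unip hd hf
  let L : U → (V →ₗ[F] V) := fun c => LinearMap.restrict (conjMat (pureGL fun i => (c i).1)).toLinearMap
    fun Z hZ => pure_conj_mem hV (fun i => ((mem_unip hd hf).1 (c i).2).1) hZ
  have hL : ∀ c (Z : V), (L c Z).1 = conjMat (pureGL fun i => (c i).1) Z.1 := fun c Z => rfl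
  have hW : ∀ c, W ≤ W.comap (L c) := fun c Z hZ => by
    obtain ⟨r, hr⟩ := Submodule.mem_span_singleton.1 (Submodule.mem_comap.1 hZ)
    refine Submodule.mem_comap.2 (Submodule.mem_comap.2 (Submodule.mem_span_singleton.2 ⟨r, ?_⟩))
    show r • 1 = (L c Z).1
    rw [hL, show Z.1 = V.subtype Z from rfl, ← hr, map_smul, map_one]
  letI : MulAction U (V ⧸ W) :=
    { smul := fun c q => W.mapQ W (L c) (hW c) q
      one_smul := fun q => by
        induction q using Submodule.Quotient.induction_on with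
        | _ Z =>
          show Submodule.Quotient.mk (L 1 Z) = _
          refine congrArg _ (Subtype.ext ?_)
          rw [hL, show (fun i => ((1 : U) i).1) = (1 : Fin t → GL (Fin k) F) from rfl, pureGL_one]
          simp [conjMat_apply]
      mul_smul := fun c d q => by
        induction q using Submodule.Quotient.induction_on with
        | _ Z =>
          show Submodule.Quotient.mk (L (c * d) Z) = Submodule.Quotient.mk (L c (L d Z))
          refine congrArg _ (Subtype.ext ?_)
          rw [hL, hL, hL, show (fun i => ((c * d) i).1) = (fun i => (c i).1) * fun i => (d i).1 from rfl,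
            ← pureGL_mul, conjMat_mul] }
  have hP : IsPGroup p U := fun c => ⟨5, funext fun i => Subtype.ext (by
    rw [Pi.pow_apply, SubgroupClass.coe_pow, Pi.one_apply, OneMemClass.coe_one]
    refine Units.ext ?_
    have h1 : ((c i).1.val - 1) ^ p ^ 5 = 0 :=
      pow_eq_zero_of_le (le_of_lt (Nat.lt_pow_self (Fact.out : p.Prime).one_lt)) (unip_nil hd hf (c i).2)
    haveI : Nonempty (Fin k) := ⟨a⟩
    haveI : CharP (Matrix (Fin k) (Fin k) F) p :=
      charP_of_injective_algebraMap (algebraMap F (Matrix (Fin k) (Fin k) F)).injective p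
    rw [sub_pow_char_pow_of_commute p 5 (Commute.one_right _), one_pow, sub_eq_zero] at h1
    rw [Units.val_pow_eq_pow_val, Units.val_one]
    exact h1)⟩
  have hne : (Submodule.Quotient.mk (⟨Y, hY⟩ : V) : V ⧸ W) ≠ 0 := fun e => by
    obtain ⟨r, hr⟩ := Submodule.mem_span_singleton.1 ((Submodule.Quotient.mk_eq_zero W).1 e)
    exact hns r hr.symm
  haveI : Nontrivial (V ⧸ W) := ⟨⟨_, _, hne⟩⟩
  have hcard : p ∣ Nat.card (V ⧸ W) := by
    obtain ⟨n, hn⟩ := FiniteField.card F p
    rw [Module.natCard_eq_pow_finrank (K := F), Nat.card_eq_fintype_card, hn.2, ← pow_mul]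
    exact dvd_pow_self p (Nat.mul_ne_zero n.ne_zero (Nat.pos_iff_ne_zero.1 Module.finrank_pos))
  obtain ⟨q, hq, hq0⟩ := hP.exists_fixed_point_of_prime_dvd_card_of_fixed_point (V ⧸ W) hcard
    (a := (0 : V ⧸ W)) (fun c => map_zero _)
  obtain ⟨Z, rfl⟩ := Submodule.Quotient.mk_surjective W q
  refine ⟨Z.1, Z.2, fun r hr => hq0 ((Submodule.Quotient.mk_eq_zero W).2
    (Submodule.mem_span_singleton.2 ⟨r, hr.symm⟩)).symm, fun j x hx => ?_⟩
  obtain ⟨g, hg, hgv⟩ := exists_gen hd hf hx
  let c : U := Pi.mulSingle j ⟨g, hg⟩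
  have h1 : Submodule.Quotient.mk (L c Z) = (Submodule.Quotient.mk Z : V ⧸ W) := hq c
  obtain ⟨μ, hμ⟩ := Submodule.mem_span_singleton.1 ((Submodule.Quotient.eq W).1 h1)
  have hc : (fun i => (c i).1) = Pi.mulSingle j g := by
    funext i
    rcases eq_or_ne i j with rfl | hi
    · simp [c]
    · simp [c, hi]
  replace hμ : μ • (1 : Matrix (Fin t → Fin k) (Fin t → Fin k) F) = conjMat (sgl j g) Z.1 - Z.1 := by
    rw [hμ, sgl_eq, ← hc]; rfl
  set X := S j x with hX
  have hXX : X * X = 0 := by rw [hX, ← map_mul, gens_sq hd hf hx, map_zero]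
  have hgX : (sgl j g).val = 1 + X := by rw [sgl_coe, hgv, map_add, map_one]
  have e1 : X * Z.1 - Z.1 * X = μ • (1 + X) := by
    have h2 : μ • (1 + X) = (conjMat (sgl j g) Z.1 - Z.1) * (sgl j g).val := by rw [← hμ, hgX, smul_mul_assoc, one_mul]
    rw [h2, sub_mul, conjMat_apply, Units.inv_mul_cancel_right, hgX, add_mul, mul_add, one_mul, mul_one]
    abel
  suffices μ = 0 by rwa [this, zero_smul, sub_eq_zero] at e1
  by_cases h2 : (2 : F) = 0
  · by_contra hμ0
    have h6 := hd.ch.resolve_left (not_not.2 h2)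
    obtain ⟨t, rfl⟩ : ∃ s, t = s + 1 := ⟨t - 1, by have := j.pos; omega⟩
    have hu : IsUnit (μ • (1 + X)) := by
      rw [← hgX, ← Units.smul_mk0 hμ0]
      exact (sgl j g).isUnit.smul _
    have hr := Matrix.rank_of_isUnit _ hu
    rw [← e1, Fintype.card_fun, Fintype.card_fin, Fintype.card_fin] at hr
    have hk := gen_rank (t := t) hd hf hx j
    have h3 : (X * Z.1 - Z.1 * X).rank ≤ 4 * k ^ t := by
      rw [sub_eq_add_neg]
      refine (rank_add_le _ _).trans ?_
      rw [rank_neg_eq]
      have hX' : X.rank ≤ 2 * k ^ t := hk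
      have := Matrix.rank_mul_le_left X Z.1
      have := Matrix.rank_mul_le_right Z.1 X
      omega
    rw [hr, pow_succ] at h3
    have := pow_pos (show 0 < k by omega) t
    nlinarith
  · have hXX' : ∀ M, X * (X * M) = 0 := fun M => by rw [← mul_assoc, hXX, zero_mul]
    have a1 := congrArg (fun M => X * M) e1
    have a2 := congrArg (fun M => M * X) e1
    simp only [mul_sub, sub_mul, mul_smul_comm, smul_mul_assoc, mul_add, add_mul, mul_one, one_mul, hXX, hXX', add_zero,
      zero_sub, mul_assoc, mul_zero, sub_zero] at a1 a2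
    have a3 : (2 * μ) • X = 0 := by
      rw [mul_smul, two_smul]
      nth_rewrite 1 [← a1]
      rw [← a2, neg_add_cancel]
    by_cases hX0 : X = 0
    · rw [hX0] at e1
      haveI : Nonempty (Fin t → Fin k) := ⟨fun _ => a⟩
      have := congrFun (congrFun e1 fun _ => a) fun _ => a
      simpa using this.symm
    · exact (mul_eq_zero.1 ((smul_eq_zero.1 a3).resolve_right hX0)).resolve_left h2

/-- the slot decomposition of an element commuting with the generators -/
theorem split_fixed {Y : Matrix (Fin (t + 1) → Fin k) (Fin (t + 1) → Fin k) F}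
    (hY : ∀ (j : Fin (t + 1)), ∀ x ∈ Gens J a b f, S j x * Y = Y * S j x) :
    ∃ Y0 Y1 Y2, Y = lift Y0 + S 0 (Matrix.single a b 1) * lift Y1 + S 0 (Qm J (Pi.single a 1) f) * lift Y2 ∧
      (f = 0 → Y2 = 0) ∧
      (∀ Z ∈ ({Y0, Y1, Y2} : Set _), ∀ (j : Fin t), ∀ x ∈ Gens J a b f, S j x * Z = Z * S j x) := by
  classical
  obtain ⟨q, hq⟩ : ∃ q, f q ≠ 0 ∨ f = 0 := by
    by_cases h0 : f = 0
    · exact ⟨a, Or.inr h0⟩
    · obtain ⟨q, hq⟩ := Function.ne_iff.1 h0
      exact ⟨q, Or.inl hq⟩
  refine ⟨blk Y a a, blk Y a b, (f q)⁻¹ • blk Y q b, (blk (F := F) (m := k) (t := t)).injective ?_, fun h => ?_, ?_⟩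
  · ext p r u v
    let X : Matrix (Fin k) (Fin k) F := Matrix.of fun i l => blk Y i l u v
    have hX : ∀ x ∈ Gens J a b f, x * X = X * x := fun x hx => by
      ext i l
      have h1 := congrArg (fun M => blk M i l u v) (hY 0 x hx)
      simp only [map_mul, Matrix.mul_apply, blk_S_zero, Matrix.map_apply, ← Algebra.smul_def,
        ← Algebra.commutes, Matrix.sum_apply, Matrix.smul_apply, smul_eq_mul] at h1
      simp only [Matrix.mul_apply, X, Matrix.of_apply]
      rw [h1]
      exact Finset.sum_congr rfl fun _ _ => mul_comm _ _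
    have h2 := congrFun (congrFun (commutant hd hf hX hq) p) r
    simp only [X, Matrix.of_apply, Matrix.add_apply, Matrix.smul_apply, smul_eq_mul] at h2
    rw [h2, map_add, map_add, Matrix.add_apply, Matrix.add_apply, Matrix.add_apply, Matrix.add_apply, blk_S0_lift,
      blk_S0_lift, blk_lift, Matrix.smul_apply, Matrix.smul_apply, Matrix.smul_apply, smul_eq_mul, smul_eq_mul,
      smul_eq_mul, Matrix.diagonal_apply, Matrix.one_apply]
    split_ifs <;> simp [mul_comm]
  · simp [h]
  · have key : ∀ (i : Fin t), ∀ x ∈ Gens J a b f, ∀ p r, S i x * blk Y p r = blk Y p r * S i x := fun i x hx p r => by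
      have h1 := congrArg (fun M => blk M p r) (hY i.succ x hx)
      simpa [map_mul, blk_S_succ, Matrix.diagonal_mul, Matrix.mul_diagonal] using h1
    rintro Z (rfl | rfl | rfl) j x hx
    · exact key j x hx a a
    · exact key j x hx a b
    · rw [mul_smul_comm, smul_mul_assoc, key j x hx q b]

end Cfsg.Agent.TensorWreath.Op
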