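import Cfsg.Agent.Lib.Forms.Max.TensorWreath.SympPlus.Ops

/-!
# Root elements with pure line generate all Eichler elements
-/

set_option autoImplicit false
set_option linter.unusedSectionVars false

namespace Cfsg.Agent.TensorWreath.Op

open Matrix Cfsg.Agent.Aschbacher Cfsg.Agent.Forms.Max Cfsg.Agent.Forms.Max.SympTools Cfsg.Agent.TensorWreath.Sy
open Cfsg.Agent.Classical.Orth (eichLin eichLin_apply eichLin_add eichLin_zero eich act_eich)

variable {F : Type*} [Field F] [Fintype F] {k t : ℕ} {J : Matrix (Fin k) (Fin k) F} {a b : Fin k}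
variable {Q : QuadraticForm F ((Fin t → Fin k) → F)} {G : Subgroup (GL (Fin t → Fin k) F)}

theorem pvec_smul (c : Fin t → F) (u : Fin t → Fin k → F) : pvec (fun i => c i • u i) = (∏ i, c i) • pvec u := by
  funext x
  simp [pvec, Finset.prod_mul_distrib]

theorem pvec_update_smul (u : Fin t → Fin k → F) (j : Fin t) (r : F) (z : Fin k → F) :
    pvec (Function.update u j (r • z)) = r • pvec (Function.update u j z) := by
  rw [show Function.update u j (r • z) = fun i => (if i = j then r else 1) • Function.update u j z i from funext fun i => by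
    rcases eq_or_ne i j with rfl | hi
    · simp
    · simp [hi], pvec_smul]
  simp

theorem pvec_update_add (u : Fin t → Fin k → F) (j : Fin t) (y z : Fin k → F) :
    pvec (Function.update u j (y + z)) = pvec (Function.update u j y) + pvec (Function.update u j z) := by
  funext x
  simp only [pvec, Pi.add_apply, ← Finset.mul_prod_erase _ _ (Finset.mem_univ j), Function.update_self, add_mul]
  congr 1 <;> congr 1 <;>
    exact Finset.prod_congr rfl fun i hi => by
      rw [Function.update_of_ne (Finset.ne_of_mem_erase hi), Function.update_of_ne (Finset.ne_of_mem_erase hi)]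

theorem pvec_sum_single (x : (Fin t → Fin k) → F) :
    x = ∑ y, x y • pvec (fun i => (Pi.single (y i) 1 : Fin k → F)) := by
  conv_lhs => rw [pi_eq_sum_univ' x]
  exact Finset.sum_congr rfl fun y _ => by rw [pvec_single]

/-- slotwise linearity -/
theorem multi (K : Submodule F ((Fin t → Fin k) → F)) (S : Fin t → Set (Fin k → F))
    (h : ∀ x : Fin t → Fin k → F, (∀ i, x i ∈ S i) → pvec x ∈ K) (x : Fin t → Fin k → F)
    (hx : ∀ i, x i ∈ Submodule.span F (S i)) : pvec x ∈ K := by
  classical
  suffices ∀ s : Finset (Fin t), ∀ x : Fin t → Fin k → F, (∀ i ∈ s, x i ∈ Submodule.span F (S i)) →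
      (∀ i ∉ s, x i ∈ S i) → pvec x ∈ K from this Finset.univ x (fun i _ => hx i) fun i hi => absurd (Finset.mem_univ i) hi
  intro s
  induction s using Finset.induction with
  | empty => exact fun x _ hx => h x fun i => hx i (Finset.notMem_empty i)
  | @insert l s hl ih =>
    intro x hx1 hx2
    let T : Submodule F (Fin k → F) :=
      { carrier := {z | pvec (Function.update x l z) ∈ K}
        zero_mem' := by
          rw [Set.mem_setOf_eq, ← zero_smul F (0 : Fin k → F), pvec_update_smul, zero_smul]; exact zero_mem _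
        add_mem' := fun {y z} hy hz => by rw [Set.mem_setOf_eq, pvec_update_add]; exact add_mem hy hz
        smul_mem' := fun r z hz => by rw [Set.mem_setOf_eq, pvec_update_smul]; exact K.smul_mem r hz }
    have hT : S l ⊆ T := fun z hz => by
      refine ih _ (fun i hi => ?_) fun i hi => ?_
      · rw [Function.update_of_ne (fun e : i = l => hl (e ▸ hi))]
        exact hx1 i (Finset.mem_insert_of_mem hi)
      · rcases eq_or_ne i l with rfl | hil
        · rwa [Function.update_self]
        · rw [Function.update_of_ne hil]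
          exact hx2 i (by simp [hi, hil])
    have h1 : x l ∈ T := Submodule.span_le.2 hT (hx1 l (Finset.mem_insert_self _ _))
    have h2 : pvec (Function.update x l (x l)) ∈ K := h1
    rwa [Function.update_eq_self] at h2

/-- the complement of a proper part spans -/
theorem span_compl {M : Type*} [AddCommGroup M] [Module F M] (U W : Submodule F M) {m : M} (hm : m ∈ U) (hmW : m ∉ W)
    {z : M} (hz : z ∈ U) : z ∈ Submodule.span F {y | y ∈ U ∧ y ∉ W} := by
  by_cases hzW : z ∈ W
  · have h1 : z + m ∈ Submodule.span F {y | y ∈ U ∧ y ∉ W} :=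
      Submodule.subset_span ⟨add_mem hz hm, fun h => hmW (by simpa using sub_mem h hzW)⟩
    simpa using sub_mem h1 (Submodule.subset_span (R := F) (show m ∈ {y | y ∈ U ∧ y ∉ W} from ⟨hm, hmW⟩))
  · exact Submodule.subset_span ⟨hz, hzW⟩

/-- the Eichler directions at a singular vector -/
def Ks (hG : Over J Q G) {u : (Fin t → Fin k) → F} (hu : Q u = 0) : Submodule F ((Fin t → Fin k) → F) where
  carrier := {v | QuadraticMap.polar Q u v = 0 ∧ ∀ r : F, ∃ g ∈ G, ∀ x, g.val *ᵥ x = eichLin Q u (r • v) x}
  zero_mem' := ⟨QuadraticMap.polar_zero_right _ _, fun r => ⟨1, one_mem _, fun x => by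
    rw [smul_zero, eichLin_zero, Units.val_one, one_mulVec]⟩⟩
  add_mem' := fun {v v'} hv hv' => ⟨by rw [QuadraticMap.polar_add_right, hv.1, hv'.1, add_zero], fun r => by
    obtain ⟨g, hg, hgx⟩ := hv.2 r
    obtain ⟨g', hg', hgx'⟩ := hv'.2 r
    refine ⟨g * g', mul_mem hg hg', fun x => ?_⟩
    rw [mulVec_mul_GL, hgx', hgx, smul_add,
      eichLin_add hu (by rw [QuadraticMap.polar_smul_right, hv.1, smul_zero])
        (by rw [QuadraticMap.polar_smul_right, hv'.1, smul_zero])]⟩
  smul_mem' := fun c v hv => ⟨by rw [QuadraticMap.polar_smul_right, hv.1, smul_zero],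
    fun r => by rw [smul_smul]; exact hv.2 (r * c)⟩

variable (hG : Over J Q G)
include hG

theorem mem_Ks {u v : (Fin t → Fin k) → F} (hu : Q u = 0) :
    v ∈ Ks hG hu ↔ QuadraticMap.polar Q u v = 0 ∧ ∀ r : F, ∃ g ∈ G, ∀ x, g.val *ᵥ x = eichLin Q u (r • v) x := Iff.rfl

theorem Ks_self {u : (Fin t → Fin k) → F} (hu : Q u = 0) : u ∈ Ks hG hu := by
  refine ⟨Classical.Orth.polar_self_zero hu, fun r => ⟨1, one_mem _, fun x => ?_⟩⟩
  rw [Units.val_one, one_mulVec, eichLin_apply, Classical.Orth.map_smul', hu, mul_zero, zero_mul, zero_smul, sub_zero,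
    QuadraticMap.polar_smul_right, smul_smul, smul_eq_mul, mul_comm r, add_sub_cancel_right]

theorem polar_map {g : GL (Fin t → Fin k) F} (hg : g ∈ G) (x y : (Fin t → Fin k) → F) :
    QuadraticMap.polar Q (g.val *ᵥ x) (g.val *ᵥ y) = QuadraticMap.polar Q x y := by
  simp only [QuadraticMap.polar, ← mulVec_add, hG.map hg]

theorem Ks_map {u u' v : (Fin t → Fin k) → F} {hu : Q u = 0} (hu' : Q u' = 0) {g : GL (Fin t → Fin k) F} (hg : g ∈ G)
    (e : g.val *ᵥ u = u') (hv : v ∈ Ks hG hu) : g.val *ᵥ v ∈ Ks hG hu' := by
  subst e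
  refine ⟨by rw [polar_map hG hg]; exact hv.1, fun r => ?_⟩
  obtain ⟨h, hh, hhx⟩ := hv.2 r
  refine ⟨g * h * g⁻¹, mul_mem (mul_mem hg hh) (inv_mem hg), fun x => ?_⟩
  obtain ⟨y, rfl⟩ : ∃ y, x = g.val *ᵥ y := ⟨(g⁻¹).val *ᵥ x, (mulVec_inv_cancel g x).symm⟩
  rw [mulVec_mul_GL, mulVec_mul_GL, mulVec_cancel_GL, hhx, eichLin_apply, eichLin_apply, polar_map hG hg,
    show r • (g.val *ᵥ v) = g.val *ᵥ (r • v) from (mulVec_smul _ _ _).symm, polar_map hG hg, hG.map hg,
    mulVec_sub, mulVec_sub, mulVec_add]
  simp only [mulVec_smul]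
where
  mulVec_cancel_GL {g : GL (Fin t → Fin k) F} {x : (Fin t → Fin k) → F} : (g⁻¹).val *ᵥ (g.val *ᵥ x) = x := by
    rw [mulVec_mulVec, ← Units.val_mul, inv_mul_cancel, Units.val_one, one_mulVec]

variable (hd : Hyp J a b) {f : Fin k → F} (hf : Mv a b f)
include hd hf

/-- admissible pairs -/
def Ok (J : Matrix (Fin k) (Fin k) F) (w w' : Fin k → F) : Prop :=
  w ≠ 0 ∧ (4 ≤ k → frm J w w' = 0 ∧ w' ∉ Submodule.span F {w}) ∧ (¬ 4 ≤ k → frm J w w' ≠ 0)

theorem exists_ok_move {w w' : Fin k → F} (h : Ok J w w') :
    ∃ g ∈ Sl J, g.val *ᵥ Pi.single a 1 = w ∧ ∃ c d : F, w' = c • (g.val *ᵥ sv b f) + d • w := by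
  obtain ⟨hw, h4', h2'⟩ := h
  obtain ⟨g, hg, hga⟩ := exists_moveS hd (u := Pi.single a 1) (ne_single a) hw
  set x := (g⁻¹).val *ᵥ w' with hx
  have hgx : g.val *ᵥ x = w' := mulVec_inv_cancel g w'
  have hxb : frm J (Pi.single a 1) x = frm J w w' := by rw [← hg, hga, hgx]
  rw [frm_a_left hd] at hxb
  by_cases h4 : 4 ≤ k
  · obtain ⟨hww, hnot⟩ := h4' h4
    set m := x - x a • Pi.single a 1 with hm
    have hmm : m ∈ mid F a b := mem_mid.2 ⟨by simp [hm], by simp [hm, hxb, hww, hd.hab.symm]⟩
    have hm0 : m ≠ 0 := fun e => hnot (Submodule.mem_span_singleton.2 ⟨x a, by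
      rw [hm, sub_eq_zero] at e
      rw [← hgx]
      conv_rhs => rw [e, mulVec_smul, hga]⟩)
    obtain ⟨y, hy, hya, -, hyf⟩ := exists_mid_move hd hf.mem hmm (hf.ne h4) hm0
    refine ⟨g * y, mul_mem hg hy, by rw [mulVec_mul_GL, hya, hga], 1, x a, ?_⟩
    rw [one_smul, mulVec_mul_GL, sv, if_pos h4, hyf, hm, mulVec_sub, mulVec_smul, hga, hgx, sub_add_cancel]
  · refine ⟨g, hg, hga, x b, x a, ?_⟩
    rw [sv, if_neg h4, ← hgx, ← hga, ← mulVec_smul, ← mulVec_smul, ← mulVec_add]
    congr 1
    funext p
    rcases k2_cases hd h4 p with rfl | rfl <;> simp [hd.hab, hd.hab.symm]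

variable (hroot : ∀ (j : Fin t) (r : F), Mem G (r • rootMat J a b f j)) (ht : 2 ≤ t)
include hroot ht

/-- the root element in Eichler form -/
theorem root_dir (j : Fin t) :
    pvec (Function.update (fun _ => Pi.single a 1) j (sv b f)) ∈
      Ks hG (hG.quad.pure (fun _ : Fin t => (Pi.single a 1 : Fin k → F))) := by
  classical
  set A : Fin t → Fin k → F := fun _ => Pi.single a 1
  set u := pvec A
  set v := pvec (Function.update A j (sv b f))
  have hX : ∀ x, rootMat J a b f j *ᵥ x =
      (-1 : F) ^ t • (QuadraticMap.polar Q x u • v - QuadraticMap.polar Q x v • u) := by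
    intro x
    let L : ((Fin t → Fin k) → F) →ₗ[F] ((Fin t → Fin k) → F) :=
      (-1 : F) ^ t • ((Cfsg.Agent.Forms.Reflections.polB Q u).smulRight v - (Cfsg.Agent.Forms.Reflections.polB Q v).smulRight u)
    have hL : ∀ x, L x = (-1 : F) ^ t • (QuadraticMap.polar Q x u • v - QuadraticMap.polar Q x v • u) := fun x => by
      simp [L, Cfsg.Agent.Forms.Reflections.polB_apply, QuadraticMap.polar_comm _ u x, QuadraticMap.polar_comm _ v x]
    rw [← hL]
    conv_lhs => rw [pvec_sum_single x, mulVec_sum]
    conv_rhs => rw [pvec_sum_single x, map_sum]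
    refine Finset.sum_congr rfl fun y _ => ?_
    rw [mulVec_smul, map_smul, hL]
    congr 1
    generalize (fun i => (Pi.single (y i) 1 : Fin k → F)) = p
    have e : rootMat J a b f j *ᵥ pvec p = (∏ i ∈ Finset.univ.erase j, -frm J (p i) (Pi.single a 1)) •
        pvec (Function.update A j (frm J (p j) (sv b f) • Pi.single a 1 + -frm J (p j) (Pi.single a 1) • sv b f)) := by
      rw [rootMat, pure_mulVec_pvec, show (fun i => Function.update (fun _ => Matrix.single a b (1 : F)) j
          (Qm J (Pi.single a 1) (sv b f)) i *ᵥ p i) = fun i => (if i = j then 1 else -frm J (p i) (Pi.single a 1)) •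
        Function.update A j (frm J (p j) (sv b f) • Pi.single a 1 + -frm J (p j) (Pi.single a 1) • sv b f) i from
        funext fun i => by
          rcases eq_or_ne i j with rfl | hi
          · rw [Function.update_self, if_pos rfl, one_smul, Function.update_self, Qm_mulVec hd, neg_smul, sub_eq_add_neg]
          · rw [Function.update_of_ne hi, if_neg hi, Function.update_of_ne hi,
              ← neg_neg (Matrix.single a b (1 : F)), ← Nm_a hd, neg_mulVec, Nm_mulVec, neg_smul], pvec_smul]
      congr 1
      rw [← Finset.mul_prod_erase _ _ (Finset.mem_univ j), if_pos rfl, one_mul]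
      exact Finset.prod_congr rfl fun i hi => by rw [if_neg (Finset.ne_of_mem_erase hi)]
    have hp : ∀ s : Fin k → F, QuadraticMap.polar Q (pvec p) (pvec (Function.update A j s)) =
        frm J (p j) s * ∏ i ∈ Finset.univ.erase j, frm J (p i) (Pi.single a 1) := fun s => by
      rw [pol_pvec hG.quad, ← Finset.mul_prod_erase _ _ (Finset.mem_univ j), Function.update_self]
      congr 1
      exact Finset.prod_congr rfl fun i hi => by rw [Function.update_of_ne (Finset.ne_of_mem_erase hi)]
    have hsgn : (-1 : F) ^ t = -(-1 : F) ^ (Finset.univ.erase j).card := by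
      have e1 : (Finset.univ.erase j).card + 1 = t := by
        rw [Finset.card_erase_add_one (Finset.mem_univ j), Finset.card_univ, Fintype.card_fin]
      rw [← neg_one_mul ((-1 : F) ^ _), ← pow_succ', e1]
    rw [e, pvec_update_add, pvec_update_smul, pvec_update_smul,
      show Function.update A j (Pi.single a 1) = A from Function.update_eq_self j A, Finset.prod_neg,
      show QuadraticMap.polar Q (pvec p) u = QuadraticMap.polar Q (pvec p) (pvec (Function.update A j (Pi.single a 1))) by
        rw [show Function.update A j (Pi.single a 1) = A from Function.update_eq_self j A],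
      hp, hp, hsgn]
    module
  refine ⟨?_, fun r => ?_⟩
  · haveI : Nontrivial (Fin t) := Fin.nontrivial_iff_two_le.2 ht
    obtain ⟨i, hi⟩ := exists_ne j
    rw [pol_pvec hG.quad]
    exact Finset.prod_eq_zero (Finset.mem_univ i) (by rw [Function.update_of_ne hi]; exact hd.sp.alt _)
  · obtain ⟨g, hg, hgv⟩ := hroot j ((-1 : F) ^ t * r)
    refine ⟨g, hg, fun x => ?_⟩
    rw [hgv, add_mulVec, one_mulVec, smul_mulVec, hX, eichLin_apply, Classical.Orth.map_smul', hG.quad.pure,
      mul_zero, zero_mul, zero_smul, sub_zero, QuadraticMap.polar_smul_right, smul_smul, smul_smul,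
      smul_eq_mul, show (-1 : F) ^ t * r * (-1) ^ t = r by
        rw [mul_right_comm, ← pow_add, Even.neg_one_pow ⟨t, rfl⟩, one_mul]]
    module

/-- the pairs differing in one slot -/
theorem pair (p : Fin t → Fin k → F) (i : Fin t) {w w' : Fin k → F} (h : Ok J w w') (hp : ∀ l, l ≠ i → p l ≠ 0) :
    pvec (Function.update p i w') ∈ Ks hG (hG.quad.pure (Function.update p i w)) := by
  classical
  obtain ⟨g, hg, hga, c, d, hw'⟩ := exists_ok_move hG hd hf h
  choose! x hx hxa using fun l (hl : l ≠ i) => exists_moveS hd (u := Pi.single a 1) (ne_single a) (hp l hl)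
  set cs : Fin t → GL (Fin k) F := Function.update x i g
  have hcs : ∀ l, cs l ∈ Sl J := fun l => by
    rcases eq_or_ne l i with rfl | hl
    · simpa [cs] using hg
    · simpa [cs, hl] using hx l hl
  have himg : ∀ z, (pureGL cs).val *ᵥ pvec (Function.update (fun _ => Pi.single a 1) i z) =
      pvec (Function.update p i (g.val *ᵥ z)) := fun z => by
    rw [pureGL_coe, pure_mulVec_pvec]
    congr 1
    funext l
    rcases eq_or_ne l i with rfl | hl
    · simp [cs]
    · simp [cs, hl, hxa l hl]
  have h1 := Ks_map hG (hG.quad.pure (Function.update p i w)) (hG.pure_mem hcs)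
    (by
      have := himg (Pi.single a 1)
      rwa [hga, show Function.update (fun _ : Fin t => (Pi.single a 1 : Fin k → F)) i (Pi.single a 1) = fun _ => Pi.single a 1
        from Function.update_eq_self i _] at this)
    (root_dir hG hd hf hroot ht i)
  rw [himg] at h1
  rw [hw', pvec_update_add, pvec_update_smul, pvec_update_smul]
  exact add_mem (Submodule.smul_mem _ c h1) (Submodule.smul_mem _ d (Ks_self hG _))

/-- new directions from old ones -/
theorem reach {vs p : Fin t → Fin k → F} (hv : pvec vs ∈ Ks hG (hG.quad.pure (fun _ : Fin t => (Pi.single a 1 : Fin k → F))))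
    {i l : Fin t} (hli : l ≠ i) (hl : frm J (Pi.single a 1) (p l) = 0) {w w' : Fin k → F} (hok : Ok J w w')
    (h0 : frm J (vs i) w' = 0) (h1 : frm J (vs i) w ≠ 0) (hn : ∀ n, n ≠ i → frm J (vs n) (p n) ≠ 0) :
    pvec (Function.update p i w') ∈ Ks hG (hG.quad.pure (fun _ : Fin t => (Pi.single a 1 : Fin k → F))) := by
  classical
  set u := pvec fun _ : Fin t => (Pi.single a 1 : Fin k → F)
  set u2 := pvec (Function.update p i w) with hu2
  set v2 := pvec (Function.update p i w') with hv2
  obtain ⟨hu2v2, hg⟩ := (mem_Ks hG _).1 (pair hG hd hf hroot ht p i hok fun n hn' e => hn n hn' (by rw [e, zero_right hd.sp]))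
  obtain ⟨g, hg, hgx⟩ := hg 1
  rw [one_smul] at hgx
  have hzero : ∀ z, QuadraticMap.polar Q u (pvec (Function.update p i z)) = 0 := fun z => by
    rw [pol_pvec hG.quad]
    exact Finset.prod_eq_zero (Finset.mem_univ l) (by rw [Function.update_of_ne hli, hl])
  have hgu : g.val *ᵥ u = u := by
    rw [hgx, eichLin_apply, hzero, hzero, zero_smul, zero_smul, mul_zero, zero_smul]
    abel
  have hvv2 : QuadraticMap.polar Q (pvec vs) v2 = 0 := by
    rw [pol_pvec hG.quad]
    exact Finset.prod_eq_zero (Finset.mem_univ i) (by rw [Function.update_self, h0])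
  have hvu2 : QuadraticMap.polar Q (pvec vs) u2 ≠ 0 := by
    rw [pol_pvec hG.quad]
    refine Finset.prod_ne_zero_iff.2 fun n _ => ?_
    rcases eq_or_ne n i with rfl | hn'
    · rw [Function.update_self]; exact h1
    · rw [Function.update_of_ne hn']; exact hn n hn'
  have h2 := sub_mem (Ks_map hG _ hg hgu hv) hv
  rw [hgx, eichLin_apply, hvv2, zero_smul, sub_zero, hG.quad.pure, zero_mul, zero_smul, sub_zero,
    add_sub_cancel_left] at h2
  have h3 := Submodule.smul_mem _ (QuadraticMap.polar Q (pvec vs) u2)⁻¹ h2
  rwa [inv_smul_smul₀ hvu2] at h3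

omit hroot ht in
theorem ker_form {v z : Fin k → F} : z ∈ LinearMap.ker (form hd.sp v) ↔ frm J z v = 0 := Iff.rfl

omit hroot ht in
/-- the vectors not orthogonal to `a` span -/
theorem span_not_perp (z : Fin k → F) : z ∈ Submodule.span F {y | frm J (Pi.single a 1) y ≠ 0} := by
  have h := span_compl (⊤ : Submodule F (Fin k → F)) (LinearMap.ker (form hd.sp (Pi.single a 1))) (m := Pi.single b 1)
    trivial (fun h => by rw [ker_form hG hd hf, frm_ba hd] at h; exact one_ne_zero (neg_eq_zero.1 h)) (Submodule.mem_top : z ∈ ⊤)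
  refine Submodule.span_mono ?_ h
  rintro y ⟨-, hy⟩ e
  exact hy (comm_zero hd.sp e)

/-- the basis vectors orthogonal to the pure vector -/
theorem basis_dir (ht4 : 4 ≤ k ∨ 4 ≤ t) (y : Fin t → Fin k) {j : Fin t} (hy : y j ≠ b) :
    pvec (fun i => (Pi.single (y i) 1 : Fin k → F)) ∈
      Ks hG (hG.quad.pure (fun _ : Fin t => (Pi.single a 1 : Fin k → F))) := by
  classical
  set A : Fin k → F := Pi.single a 1 with hA
  set K := Ks hG (hG.quad.pure (fun _ : Fin t => A))
  have hperp : frm J A (Pi.single (y j) 1) = 0 := by rw [frm_a_left hd, Pi.single_eq_of_ne hy.symm]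
  haveI : Nontrivial (Fin t) := Fin.nontrivial_iff_two_le.2 ht
  obtain ⟨i, hij⟩ := exists_ne j
  by_cases h4 : 4 ≤ k
  · have hf0 := hf.ne h4
    have haf : frm J A f = 0 := frm_af hd hf
    set P := LinearMap.ker (form hd.sp A)
    have hP : ∀ {z}, z ∈ P ↔ frm J z A = 0 := fun {z} => Iff.rfl
    have hnsp : f ∉ Submodule.span F {A} := fun h => by
      obtain ⟨c, hc⟩ := Submodule.mem_span_singleton.1 h
      refine hf0 ?_
      have h1 := congrFun hc a
      rw [Pi.smul_apply, hA, Pi.single_eq_same, (mem_mid.1 hf.mem).1, smul_eq_mul, mul_one] at h1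
      rw [← hc, h1, zero_smul]
    obtain ⟨g, hgA, hgf⟩ := exists_perp_value hd.sp hnsp
    -- one free slot besides two orthogonal ones
    have r1 : ∀ i, i ≠ j → ∀ x : Fin t → Fin k → F, frm J A (x j) = 0 → frm J A (x i) = 0 → pvec x ∈ K := by
      intro i hij x hxj hxi
      let S : Fin t → Set (Fin k → F) := fun n =>
        if n = j then {z | z ∈ P ∧ z ∉ LinearMap.ker (form hd.sp f)}
        else if n = i then {z | z ∈ P ∧ z ∉ Submodule.span F {A}} else {z | frm J A z ≠ 0}
      refine multi K S (fun x hx => ?_) x fun n => ?_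
      · have hj' := hx j
        have hi' := hx i
        simp only [S, if_pos, if_neg hij] at hj' hi'
        obtain ⟨hj1, hj2⟩ := hj'
        obtain ⟨hi1, hi2⟩ := hi'
        have hAs : A ∉ Submodule.span F {x i} := fun h => by
          obtain ⟨c, hc⟩ := Submodule.mem_span_singleton.1 h
          rcases eq_or_ne c 0 with rfl | hc0
          · rw [zero_smul] at hc; exact ne_single a hc.symm
          · exact hi2 (Submodule.mem_span_singleton.2 ⟨c⁻¹, by rw [← hc, inv_smul_smul₀ hc0]⟩)
        obtain ⟨w, hw0, hw1⟩ := exists_perp_value hd.sp hAs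
        have hv1 : pvec (Function.update (fun _ => A) j f) ∈ K := by
          have h := root_dir hG hd hf hroot ht j
          rwa [sv, if_pos h4] at h
        have h := reach hG hd hf hroot ht (p := x) (i := i) (l := j) (w := w) (w' := x i) hv1
          hij.symm (comm_zero hd.sp hj1) ⟨fun e => by rw [e, zero_left hd.sp] at hw1; exact zero_ne_one hw1,
            fun _ => ⟨hw0, fun h => by
              obtain ⟨c, hc⟩ := Submodule.mem_span_singleton.1 h
              have := hP.1 hi1
              rw [← hc, hd.sp.smul, hw1, mul_one] at this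
              rw [this, zero_smul] at hc
              exact hi2 (hc ▸ zero_mem _)⟩, fun h => absurd h4 h⟩
          (by rw [Function.update_of_ne hij]; exact comm_zero hd.sp hi1)
          (by rw [Function.update_of_ne hij, hd.sp.skew, hw1]; exact neg_ne_zero.2 one_ne_zero)
          (fun n hn => by
            rcases eq_or_ne n j with rfl | hnj
            · rw [Function.update_self]
              exact fun e => hj2 (comm_zero hd.sp e)
            · rw [Function.update_of_ne hnj]
              have := hx n
              simpa [S, hn, hnj] using this)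
        simpa [K, Function.update_eq_self] using h
      · by_cases hnj : n = j
        · subst hnj
          simp only [S, if_pos]
          exact span_compl P _ (m := g) hgA (fun h => one_ne_zero (hgf.symm.trans h)) (comm_zero hd.sp hxj)
        by_cases hni : n = i
        · subst hni
          simp only [S, if_neg hnj, if_pos]
          exact span_compl P _ (m := f) (comm_zero hd.sp haf) hnsp (comm_zero hd.sp hxi)
        simp only [S, if_neg hnj, if_neg hni]
        exact span_not_perp hG hd hf _
    -- one orthogonal slot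
    let S : Fin t → Set (Fin k → F) := fun n =>
      if n = j then {z | z ∈ P ∧ z ∉ LinearMap.ker (form hd.sp f)} else {z | frm J A z ≠ 0}
    refine multi K S (fun x hx => ?_) _ fun n => ?_
    · have hj' := hx j
      have hxi := hx i
      simp only [S, if_pos, if_neg hij] at hj' hxi
      obtain ⟨hj1, hj2⟩ := hj'
      obtain ⟨m, hm, hm0⟩ := Submodule.exists_mem_ne_zero_of_ne_bot
        (p := LinearMap.ker ((form hd.sp A).prod (form hd.sp (x i)))) fun e => by
          have h1 := LinearMap.finrank_range_add_finrank_ker ((form hd.sp A).prod (form hd.sp (x i)))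
          have h2 := Submodule.finrank_le (LinearMap.range ((form hd.sp A).prod (form hd.sp (x i))))
          rw [Module.finrank_prod, Module.finrank_self] at h2
          rw [e, finrank_bot, Module.finrank_fintype_fun_eq_card, Fintype.card_fin] at h1
          omega
      obtain ⟨hmA, hmx⟩ : frm J m A = 0 ∧ frm J m (x i) = 0 := by simpa [form_apply] using hm
      have hms : m ∉ Submodule.span F {x i} := fun h => by
        obtain ⟨c, hc⟩ := Submodule.mem_span_singleton.1 h
        rw [← hc, hd.sp.smul, mul_eq_zero] at hmA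
        rcases hmA with e | e
        · rw [e, zero_smul] at hc; exact hm0 hc.symm
        · exact hxi (comm_zero hd.sp e)
      obtain ⟨w, hw0, hw1⟩ := exists_perp_value hd.sp hms
      have h := reach hG hd hf hroot ht (p := x) (i := i) (l := j) (w := w) (w' := x i)
        (r1 i hij (Function.update (Function.update (fun _ => A) j f) i m)
          (by rw [Function.update_of_ne hij.symm, Function.update_self]; exact haf)
          (by rw [Function.update_self]; exact comm_zero hd.sp hmA))
        hij.symm (comm_zero hd.sp hj1) ⟨fun e => by rw [e, zero_left hd.sp] at hw1; exact zero_ne_one hw1,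
          fun _ => ⟨hw0, fun h => by
            obtain ⟨c, hc⟩ := Submodule.mem_span_singleton.1 h
            have h5 := comm_zero hd.sp hmx
            rw [← hc, hd.sp.smul, hw1, mul_one] at h5
            rw [h5, zero_smul] at hc
            exact hxi (by rw [← hc, zero_right hd.sp])⟩, fun h => absurd h4 h⟩
        (by rw [Function.update_self]; exact hmx)
        (by rw [Function.update_self, hd.sp.skew, hw1]; exact neg_ne_zero.2 one_ne_zero)
        (fun n hn => by
          rw [Function.update_of_ne hn]
          rcases eq_or_ne n j with rfl | hnj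
          · rw [Function.update_self]
            exact fun e => hj2 (comm_zero hd.sp e)
          · rw [Function.update_of_ne hnj]
            have := hx n
            simpa [S, hnj] using this)
      simpa [K, Function.update_eq_self] using h
    · by_cases hnj : n = j
      · subst hnj
        simp only [S, if_pos]
        exact span_compl P _ (m := g) hgA (fun h => one_ne_zero (hgf.symm.trans h)) (comm_zero hd.sp hperp)
      simp only [S, if_neg hnj]
      exact span_not_perp hG hd hf _
  · -- two-dimensional slots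
    set Bv : Fin k → F := Pi.single b 1 with hB
    have hsv : sv b f = Bv := by rw [sv, if_neg h4]
    have hab' : frm J A Bv = 1 := frm_ab hd
    have hba' : frm J Bv A ≠ 0 := by rw [frm_ba hd]; exact neg_ne_zero.2 one_ne_zero
    have ht4' := ht4.resolve_left h4
    have hbase : ∀ l : Fin t, pvec (Function.update (fun _ => A) l Bv) ∈ K := fun l => hsv ▸ root_dir hG hd hf hroot ht l
    have okBA : Ok J Bv A := ⟨ne_single b, fun h => absurd h h4, fun _ => hba'⟩
    have okAB : Ok J A Bv := ⟨ne_single a, fun h => absurd h h4, fun _ => by rw [hab']; exact one_ne_zero⟩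
    have r1 : ∀ j' i', i' ≠ j' → ∀ x : Fin t → Fin k → F, x j' = A → x i' = A → pvec x ∈ K := by
      intro j' i' hne x hxj hxi
      let S : Fin t → Set (Fin k → F) := fun n => if n = j' ∨ n = i' then {A} else {z | frm J A z ≠ 0}
      refine multi K S (fun x hx => ?_) x fun n => ?_
      · have hj' : x j' = A := by have := hx j'; simpa [S] using this
        have hi' : x i' = A := by have := hx i'; simpa [S] using this
        have h := reach hG hd hf hroot ht (p := x) (i := i') (l := j') (w := Bv) (w' := A) (hbase j') hne.symm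
          (by rw [hj']; exact hd.sp.alt A) okBA (by rw [Function.update_of_ne hne]; exact hd.sp.alt A)
          (by rw [Function.update_of_ne hne, hab']; exact one_ne_zero) (fun n hn => by
            rcases eq_or_ne n j' with rfl | hnj
            · rw [Function.update_self, hj']; exact hba'
            · rw [Function.update_of_ne hnj]
              have := hx n
              simpa [S, hn, hnj] using this)
        rw [← hi', Function.update_eq_self] at h
        exact h
      · by_cases hn : n = j' ∨ n = i'
        · simp only [S, if_pos hn]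
          refine Submodule.subset_span ?_
          rcases hn with rfl | rfl <;> simp [hxj, hxi]
        · simp only [S, if_neg hn]
          exact span_not_perp hG hd hf _
    have hyj : y j = a := (k2_cases hd h4 (y j)).resolve_right hy
    rcases k2_cases hd h4 (y i) with hyi | hyi
    · exact r1 j i hij _ (by simp [hyj, hA]) (by simp [hyi, hA])
    obtain ⟨p, hp, q, hq, hpq⟩ : ∃ p ∈ ((Finset.univ.erase i).erase j), ∃ q ∈ ((Finset.univ.erase i).erase j), p ≠ q := by
      refine Finset.one_lt_card.1 ?_
      rw [Finset.card_erase_of_mem (by simp [hij.symm]), Finset.card_erase_of_mem (Finset.mem_univ _), Finset.card_univ,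
        Fintype.card_fin]
      omega
    simp only [Finset.mem_erase, Finset.mem_univ, and_true] at hp hq
    have hv := r1 p q hpq.symm (Function.update (Function.update (fun _ => A) j Bv) i Bv)
      (by rw [Function.update_of_ne hp.2, Function.update_of_ne hp.1])
      (by rw [Function.update_of_ne hq.2, Function.update_of_ne hq.1])
    let S : Fin t → Set (Fin k → F) := fun n => if n = j then {A} else if n = i then {Bv} else {z | frm J A z ≠ 0}
    refine multi K S (fun x hx => ?_) _ fun n => ?_
    · have hj' : x j = A := by have := hx j; simpa [S] using this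
      have hi' : x i = Bv := by have := hx i; simpa [S, hij] using this
      have h := reach hG hd hf hroot ht (p := x) (i := i) (l := j) (w := A) (w' := Bv) hv hij.symm
        (by rw [hj']; exact hd.sp.alt A) okAB (by rw [Function.update_self]; exact hd.sp.alt Bv)
        (by rw [Function.update_self]; exact hba') (fun n hn => by
          rw [Function.update_of_ne hn]
          rcases eq_or_ne n j with rfl | hnj
          · rw [Function.update_self, hj']; exact hba'
          · rw [Function.update_of_ne hnj]
            have := hx n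
            simpa [S, hn, hnj] using this)
      rw [← hi', Function.update_eq_self] at h
      exact h
    · by_cases hnj : n = j
      · subst hnj
        simp only [S, if_pos]
        exact Submodule.subset_span (by simp [hyj, hA])
      by_cases hni : n = i
      · subst hni
        simp only [S, if_neg hnj, if_pos]
        exact Submodule.subset_span (by simp [hyi, hB])
      simp only [S, if_neg hnj, if_neg hni]
      exact span_not_perp hG hd hf _

/-- the orthogonal of a pure vector -/
theorem perp_pure (ht4 : 4 ≤ k ∨ 4 ≤ t) (p : Fin t → Fin k → F) (hp : ∀ i, p i ≠ 0) {x : (Fin t → Fin k) → F}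
    (hx : QuadraticMap.polar Q (pvec p) x = 0) : x ∈ Ks hG (hG.quad.pure p) := by
  classical
  have base : ∀ x, QuadraticMap.polar Q (pvec fun _ : Fin t => (Pi.single a 1 : Fin k → F)) x = 0 →
      x ∈ Ks hG (hG.quad.pure (fun _ : Fin t => (Pi.single a 1 : Fin k → F))) := by
    intro x hx
    set K := Ks hG (hG.quad.pure (fun _ : Fin t => (Pi.single a 1 : Fin k → F)))
    set c : Fin t → Fin k := fun _ => b
    have hmem : ∑ y ∈ Finset.univ.erase c, x y • pvec (fun i => (Pi.single (y i) 1 : Fin k → F)) ∈ K := by
      refine K.sum_mem fun y hy => K.smul_mem _ ?_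
      obtain ⟨j, hj⟩ := Function.ne_iff.1 (Finset.ne_of_mem_erase hy)
      exact basis_dir hG hd hf hroot ht ht4 y hj
    have e : x = x c • pvec (fun i => (Pi.single (c i) 1 : Fin k → F)) +
        ∑ y ∈ Finset.univ.erase c, x y • pvec (fun i => (Pi.single (y i) 1 : Fin k → F)) := by
      rw [Finset.add_sum_erase _ (fun y => x y • pvec (fun i => (Pi.single (y i) 1 : Fin k → F))) (Finset.mem_univ c)]
      exact pvec_sum_single x
    have hc : x c = 0 := by
      have h1 := hx
      rw [e, QuadraticMap.polar_add_right, hmem.1, add_zero, QuadraticMap.polar_smul_right, pol_pvec hG.quad,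
        Finset.prod_congr rfl (fun i _ => frm_ab hd), Finset.prod_const_one, smul_eq_mul, mul_one] at h1
      exact h1
    rw [e, hc, zero_smul, zero_add]
    exact hmem
  choose g hg hga using fun i => exists_moveS hd (u := Pi.single a 1) (ne_single a) (hp i)
  have himg : (pureGL g).val *ᵥ pvec (fun _ => Pi.single a 1) = pvec p := by
    rw [pureGL_coe, pure_mulVec_pvec]
    exact congrArg pvec (funext hga)
  obtain ⟨y, rfl⟩ : ∃ y, x = (pureGL g).val *ᵥ y := ⟨((pureGL g)⁻¹).val *ᵥ x, (mulVec_inv_cancel _ x).symm⟩
  rw [← himg, polar_map hG (hG.pure_mem hg)] at hx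
  exact Ks_map hG _ (hG.pure_mem hg) himg (base y hx)

/-- all Eichler elements -/
theorem eich_all (ht4 : 4 ≤ k ∨ 4 ≤ t) {v w : (Fin t → Fin k) → F} (hv0 : v ≠ 0) (hv : Q v = 0)
    (hvw : QuadraticMap.polar Q v w = 0) : w ∈ Ks hG hv := by
  classical
  obtain ⟨q, hq⟩ : ∃ q : Fin t → Fin k → F, QuadraticMap.polar Q v (pvec q) ≠ 0 := by
    by_contra hc
    push Not at hc
    refine hv0 (hG.quad.nd.1 v fun y => ?_)
    rw [pvec_sum_single y, map_sum]
    exact Finset.sum_eq_zero fun z _ => by rw [map_smul, QuadraticMap.polarBilin_apply_apply, hc, smul_zero]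
  set j : Fin t := ⟨0, by omega⟩
  set p := Function.update q j ((QuadraticMap.polar Q v (pvec q))⁻¹ • q j)
  have hvp : QuadraticMap.polar Q v (pvec p) = 1 := by
    rw [show p = Function.update q j ((QuadraticMap.polar Q v (pvec q))⁻¹ • q j) from rfl, pvec_update_smul,
      Function.update_eq_self, QuadraticMap.polar_smul_right, smul_eq_mul, inv_mul_cancel₀ hq]
  have hne : ∀ {r : Fin t → Fin k → F} {z}, QuadraticMap.polar Q z (pvec r) = 1 → ∀ i, r i ≠ 0 := fun {r z} h i e => by
    rw [show pvec r = 0 from funext fun x => Finset.prod_eq_zero (Finset.mem_univ i) (by rw [e]; rfl),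
      QuadraticMap.polar_zero_right] at h
    exact zero_ne_one h
  choose s hs using fun i => exists_value_one hd.sp (hne hvp i)
  set v0 := pvec s
  have hv0p : QuadraticMap.polar Q v0 (pvec p) = 1 := by
    rw [pol_pvec hG.quad]; exact Finset.prod_eq_one fun i _ => hs i
  have hmem := perp_pure hG hd hf hroot ht ht4 p (hne hvp) (x := v - v0) (by
    rw [QuadraticMap.polar_comm, QuadraticMap.polar_sub_left, hvp, hv0p, sub_self])
  obtain ⟨g, hg, hgx⟩ := hmem.2 1
  rw [one_smul] at hgx
  have hgv : g.val *ᵥ v0 = v := by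
    rw [hgx, eichLin_apply, hv0p, one_smul, mul_one, add_sub_cancel, sub_sub, ← add_smul]
    have h1 : Q v0 + Q (v - v0) + QuadraticMap.polar Q v0 (v - v0) = Q v := by
      rw [← Classical.Orth.map_add', add_sub_cancel]
    rw [hv, hG.quad.pure, zero_add, add_comm] at h1
    rw [h1, zero_smul, sub_zero]
  obtain ⟨z, rfl⟩ : ∃ z, w = g.val *ᵥ z := ⟨(g⁻¹).val *ᵥ w, (mulVec_inv_cancel g w).symm⟩
  rw [← hgv, polar_map hG hg] at hvw
  exact Ks_map hG hv hg hgv (perp_pure hG hd hf hroot ht ht4 s (fun i e => by
    have := hs i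
    rw [e, zero_left hd.sp] at this
    exact zero_ne_one this) hvw)

/-- the derived group is contained -/
theorem omega_le (ht4 : 4 ≤ k ∨ 4 ≤ t) (hn : 5 ≤ Fintype.card (Fin t → Fin k)) : Cfsg.Geo.omegaGL ⇑Q ≤ G := by
  have hle := Orth.omega_le_of_centres (Q := Q) hG.quad.nd hn
    (M := G.comap (Cfsg.isometryGroup F ⇑Q).subtype) fun u hu0 hu => ⟨hu, fun w hu' huw => by
      obtain ⟨g, hg, hgx⟩ := (eich_all hG hd hf hroot ht ht4 hu0 hu' huw).2 1
      have e1 : ((eich u w hu' huw : Cfsg.isometryGroup F ⇑Q) : GL (Fin t → Fin k) F) = g := gl_ext fun x => by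
        have h1 := act_eich hu' huw x
        rw [Cfsg.Agent.Forms.Reflections.act_apply] at h1
        rw [hgx, one_smul, eichLin_apply]
        exact h1
      show ((eich u w hu' huw : Cfsg.isometryGroup F ⇑Q) : GL (Fin t → Fin k) F) ∈ G
      exact e1 ▸ hg⟩
  exact Subgroup.map_le_iff_le_comap.2 hle

end Cfsg.Agent.TensorWreath.Op
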