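import Cfsg.Agent.Lib.Forms.Max.TensorWreath.Symp.Maximal
import Cfsg.Agent.Lib.Forms.Max.TensorWreath.SympPlus.Coeff
import Cfsg.Agent.Lib.Forms.Max.TensorWreath.SympPlus.Spread
import Cfsg.Agent.Lib.Forms.Max.Tensor.SympMaximal

/-!
# Stabilisers of symplectic tensor power decompositions are maximal in the orthogonal groups
-/

set_option autoImplicit false
set_option linter.unusedSectionVars false

namespace Cfsg.Agent.TensorWreath.Op

open scoped commutatorElement
open Matrix Cfsg.Agent.Forms Cfsg.Agent.Aschbacher Cfsg.Agent.Forms.Max Cfsg.Agent.Forms.Max.SympTools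
  Cfsg.Agent.TensorWreath.Sy

variable {F : Type*} [Field F] [Fintype F] {k t : ℕ} {J : Matrix (Fin k) (Fin k) F} {a b : Fin k}

theorem four_le (hd : Hyp J a b) (hn : 9 ≤ Fintype.card (Fin t → Fin k)) : 4 ≤ k ∨ 4 ≤ t := by
  rcases hd.hk with h2 | h4
  · refine Or.inr ?_
    by_contra hc
    rw [Fintype.card_fun, Fintype.card_fin, Fintype.card_fin, h2] at hn
    have : 2 ^ t ≤ 2 ^ 3 := Nat.pow_le_pow_right two_pos (by omega)
    omega
  · exact Or.inl h4

/-- the derived group is not inside the wreath group -/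
theorem not_omega_le {Q : QuadraticForm F ((Fin t → Fin k) → F)} (hd : Hyp J a b) (hQ : Quad J Q) (ht : 2 ≤ t)
    (hn : 9 ≤ Fintype.card (Fin t → Fin k)) : ¬ Cfsg.Geo.omegaGL ⇑Q ≤ Wr F k t := by
  classical
  intro hle
  have ht4 := four_le hd hn
  obtain ⟨f, hf⟩ := exists_mv hd
  obtain ⟨hfa, hfb⟩ := mem_mid.1 hf.mem
  set s := sv b f
  have hs0 : s ≠ 0 := by
    by_cases h4 : 4 ≤ k
    · simp only [s, sv, if_pos h4]; exact hf.ne h4
    · simp only [s, sv, if_neg h4]; exact ne_single b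
  have hsa : s a = 0 := by
    by_cases h4 : 4 ≤ k
    · simp only [s, sv, if_pos h4, hfa]
    · simp [s, sv, h4, hd.hab]
  obtain ⟨q, hq⟩ : ∃ q, frm J (Pi.single q 1) s ≠ 0 := by
    by_contra hc
    push Not at hc
    obtain ⟨x, hx⟩ := exists_value_one hd.sp hs0
    refine one_ne_zero (α := F) ?_
    rw [← hx, frm, pi_eq_sum_univ' x, sum_dotProduct]
    refine Finset.sum_eq_zero fun p _ => ?_
    rw [smul_dotProduct, show (Pi.single p 1 : Fin k → F) ⬝ᵥ J *ᵥ s = 0 from hc p, smul_zero]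
  let j : Fin t := ⟨0, by omega⟩
  let i₀ : Fin t := ⟨1, by omega⟩
  have hij : i₀ ≠ j := by simp [i₀, j]
  set A : Fin t → Fin k → F := fun _ => Pi.single a 1
  obtain ⟨g, hg, hgx⟩ := Orth.exists_eichGL hQ.nd hn (hQ.pure A) (w := pvec (Function.update A j s)) (by
    rw [pol_pvec hQ]
    exact Finset.prod_eq_zero (Finset.mem_univ i₀) (by rw [Function.update_of_ne hij]; exact hd.sp.alt _))
  let P : Fin t → Fin k := fun _ => a
  have hent : ∀ Y, g.val P Y = (if P = Y then 1 else 0) -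
      QuadraticMap.polar Q (pvec fun i => Pi.single (Y i) 1) (pvec (Function.update A j s)) := by
    intro Y
    have h1 := congrFun (hgx (pvec fun i => Pi.single (Y i) 1)) P
    rw [← pvec_single, mulVec_single_one, Matrix.col_apply, Classical.Orth.eichLin_apply, hQ.pure, zero_mul, zero_smul,
      sub_zero, Pi.sub_apply, Pi.add_apply, Pi.smul_apply, Pi.smul_apply,
      show pvec (Function.update A j s) P = 0 from Finset.prod_eq_zero (Finset.mem_univ j) (by
        rw [Function.update_self]; exact hsa),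
      show pvec A P = 1 from Finset.prod_eq_one (fun i _ => by simp [A, P]), smul_zero, add_zero, smul_eq_mul, mul_one,
      Pi.single_apply] at h1
    rwa [← pvec_single]
  have hval : ∀ Y : Fin t → Fin k, QuadraticMap.polar Q (pvec fun i => Pi.single (Y i) 1) (pvec (Function.update A j s)) =
      frm J (Pi.single (Y j) 1) s * ∏ i ∈ Finset.univ.erase j, frm J (Pi.single (Y i) 1) (Pi.single a 1) := fun Y => by
    rw [pol_pvec hQ, ← Finset.mul_prod_erase _ _ (Finset.mem_univ j), Function.update_self]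
    congr 1
    exact Finset.prod_congr rfl fun i hi => by rw [Function.update_of_ne (Finset.ne_of_mem_erase hi)]
  let P' : Fin t → Fin k := Function.update (fun _ => b) j q
  let Y : Fin t → Fin k := Function.update P i₀ b
  have hPP : g.val P P ≠ 0 := by
    rw [hent, if_pos rfl, hval, Finset.prod_eq_zero (Finset.mem_erase.2 ⟨hij, Finset.mem_univ _⟩) (hd.sp.alt _), mul_zero,
      sub_zero]
    exact one_ne_zero
  have hPP' : g.val P P' ≠ 0 := by
    have hne : P ≠ P' := fun e => hd.hab (by simpa [P, P', hij] using congrFun e i₀)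
    rw [hent, if_neg hne, zero_sub, neg_ne_zero, hval]
    refine mul_ne_zero (by simpa [P'] using hq) (Finset.prod_ne_zero_iff.2 fun i hi => ?_)
    simp only [P', Function.update_of_ne (Finset.ne_of_mem_erase hi), frm_ba hd]
    exact neg_ne_zero.2 one_ne_zero
  obtain ⟨π, cs, hcs⟩ := exists_nf (hle hg)
  have he : ∀ x y, g.val x y = ∏ l, (cs l).val (x (π l)) (y l) := fun x y => by rw [hcs, mulVec_perm_pure]
  rw [he, Finset.prod_ne_zero_iff] at hPP hPP'
  have hne : g.val P Y ≠ 0 := by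
    rw [he, Finset.prod_ne_zero_iff]
    intro l hl
    rcases eq_or_ne l i₀ with rfl | hl'
    · simpa [Y, P', P, hij] using hPP' i₀ hl
    · simpa [Y, Function.update_of_ne hl', P] using hPP l hl
  refine hne ?_
  have hPY : P ≠ Y := fun e => hd.hab (by simpa [P, Y] using congrFun e i₀)
  rw [hent, if_neg hPY, zero_sub, neg_eq_zero, hval]
  by_cases h4 : 4 ≤ k
  · rw [show frm J (Pi.single (Y j) 1) s = 0 by
      simp only [Y, P, Function.update_of_ne hij.symm, s, sv, if_pos h4]; exact frm_af hd hf, zero_mul]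
  · have ht4' := ht4.resolve_left h4
    let l : Fin t := ⟨2, by omega⟩
    rw [Finset.prod_eq_zero (i := l) (Finset.mem_erase.2 ⟨by simp [l, j], Finset.mem_univ _⟩) ?_, mul_zero]
    simp only [Y, P, Function.update_of_ne (show l ≠ i₀ by simp [l, i₀])]
    exact hd.sp.alt _

variable {Q : QuadraticForm F ((Fin (t + 1) → Fin k) → F)} {G : Subgroup (GL (Fin (t + 1) → Fin k) F)}

/-- overgroups are in the wreath group or contain the derived group -/
theorem wr_or_omega (hd : Hyp J a b) (hbig : Big F k) (hn : 9 ≤ Fintype.card (Fin (t + 1) → Fin k))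
    (ht : (2 : F) ≠ 0 → Even (t + 1)) (hG : Over J Q G) :
    G ≤ Wr F k (t + 1) ∨ Cfsg.Geo.omegaGL ⇑Q ≤ G := by
  by_cases hT : TameU J a b G
  · exact Or.inl (levelS hd hbig t G hG.base hG.iso hT)
  refine Or.inr fun x hx => ?_
  obtain ⟨f, hf⟩ := exists_mv hd
  obtain ⟨w, hw, T, hA⟩ := exists_act hd hf hG hT
  have hG' := hG.conjSub hw
  have ht2 : 2 ≤ t + 1 := by
    obtain ⟨i, l, hil, -, -⟩ := hA.two
    by_contra hc
    exact hil (Fin.ext (by omega))
  have ht4 := four_le hd hn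
  have hroot := roots_mem hd hf hG' ht ht4 hA
  have h := omega_le hG' hd hf hroot ht2 ht4 (by omega) (omega_conj (W0_quad hG.quad hw) hx)
  simpa [mul_assoc] using mem_conjSub.1 h

/-- the stabilisers of symplectic tensor power decompositions in the orthogonal groups -/
theorem orthogonal_wreath_maximal {n : ℕ} (hn : 13 ≤ n) (heven : Even n) (Qf : (Fin n → F) → F)
    (hQ : Cfsg.Geo.IsNondegenerateQuadraticForm Qf) {k t : ℕ} (ht : 2 ≤ t) (hqt : Odd (Fintype.card F) → Even t)
    (hex2 : ¬ (Fintype.card F = 3 ∧ k = 2))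
    (hex3 : ¬ Odd (Fintype.card F) → 6 ≤ k) (e : Fin n ≃ (Fin t → Fin k)) (P : GL (Fin n) F)
    {f₁ : (Fin k → F) → (Fin k → F) → F} (hf₁ : Cfsg.Geo.IsSymplecticForm f₁)
    (hT : Cfsg.Geo.IsTensorPowerFormStructure id (QuadraticMap.polar Qf) f₁ e P)
    (hpure : ∀ xs : Fin t → (Fin k → F),
      Qf (Matrix.mulVec (Units.val P) ((fun a : Fin t → Fin k => ∏ i, xs i (a i)) ∘ e)) = 0) :
    Cfsg.Geo.IsMaximalIn (Cfsg.Geo.omegaGL Qf) (Cfsg.Geo.tensorWreathSubgroup k t e P ⊓ Cfsg.Geo.omegaGL Qf) := by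
  classical
  obtain ⟨R, rfl, hR⟩ := Orth.exists_form hQ
  have hcard : n = k ^ t := by simpa using Fintype.card_congr e
  have hk : k = 2 ∨ 4 ≤ k := by
    have hke : Even k := (Nat.even_pow.1 (hcard ▸ heven : Even (k ^ t))).1
    have hk0 : k ≠ 0 := fun h => by rw [h, zero_pow (by omega)] at hcard; omega
    obtain ⟨r, hr⟩ := hke
    omega
  have hch : (2 : F) ≠ 0 ∨ 6 ≤ k := by
    by_cases ho : Odd (Fintype.card F)
    · left
      intro h
      haveI := CharTwo.of_one_ne_zero_of_two_eq_zero (R := F) one_ne_zero h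
      obtain ⟨m, -, hm⟩ := FiniteField.card F 2
      rw [hm] at ho
      exact Nat.not_even_iff_odd.2 ho (Nat.even_pow.2 ⟨even_two, m.ne_zero⟩)
    · exact Or.inr (hex3 ho)
  have hodd2 : (2 : F) ≠ 0 → Odd (Fintype.card F) := fun h => by
    obtain ⟨p, hp⟩ := CharP.exists F
    haveI : Fact p.Prime := ⟨(CharP.char_is_prime_or_zero F p).resolve_right (CharP.char_ne_zero_of_finite F p)⟩
    obtain ⟨m, -, hm⟩ := FiniteField.card F p
    rw [hm]
    refine ((Fact.out : p.Prime).odd_of_ne_two fun e => h ?_).pow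
    subst e
    exact_mod_cast CharP.cast_eq_zero F 2
  have hbig : Big F k := by
    by_cases h4 : 4 ≤ k
    · exact Or.inl h4
    refine Or.inr ?_
    have hodd : Odd (Fintype.card F) := hodd2 (hch.resolve_right (by omega))
    have hq3 : Fintype.card F ≠ 3 := fun h => hex2 ⟨h, by omega⟩
    have hq1 : 1 < Fintype.card F := Fintype.one_lt_card
    obtain ⟨g, hg⟩ := IsCyclic.exists_generator (α := Fˣ)
    have ho : orderOf g = Fintype.card F - 1 := by
      rw [orderOf_eq_card_of_forall_mem_zpowers hg, Nat.card_units, Nat.card_eq_fintype_card]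
    refine ⟨(g : F), Units.ne_zero _, fun h1 => ?_⟩
    have h2 : g ^ 2 = 1 := Units.ext (by rw [Units.val_pow_eq_pow_val, Units.val_one, sq]; exact h1)
    have h3 := Nat.le_of_dvd (by omega) (orderOf_dvd_of_pow_eq_one h2)
    rw [ho] at h3
    obtain ⟨r, hr⟩ := hodd
    omega
  have hβ : Symp f₁ := ⟨hf₁.bilinear.add_left, hf₁.bilinear.smul_left, hf₁.alternating, hf₁.skew, fun v hv => by
    by_contra h0
    obtain ⟨y, hy⟩ := (hf₁.nondegenerate v h0).2
    exact hy (hv y)⟩
  have hgram : frm (Cfsg.Geo.gramMatrix f₁) = f₁ := funext fun x => funext fun y => by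
    rw [← Factor.formOfGram_gram (RingHom.id F) hβ.add hβ.smul (SympTools.add_right hβ)
      (fun c v w => SympTools.smul_right hβ c v w) x y]
    simp [frm, Cfsg.Geo.formOfGram, dotProduct, mulVec, Finset.mul_sum, mul_assoc]
  obtain ⟨B, a, b, hd⟩ := exists_hyp (G := Cfsg.Geo.gramMatrix f₁) (hgram.symm ▸ hβ) hch hk
  set J := B.valᵀ * Cfsg.Geo.gramMatrix f₁ * B.val
  obtain ⟨κ, hκ0, hval⟩ := hT
  set Qg : GL (Fin t → Fin k) F := pureGL fun _ => B
  have hQW : Qg ∈ Wr F k t := pureGL_mem _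
  let φ : GL (Fin t → Fin k) F ≃* GL (Fin n) F :=
    (MulAut.conj Qg).trans ((Cfsg.Geo.glReindex e.symm).trans (MulAut.conj P))
  let L : ((Fin t → Fin k) → F) →ₗ[F] (Fin n → F) :=
    (Matrix.toLin' (Units.val P)).comp ((LinearMap.funLeft F F e).comp (Matrix.toLin' Qg.val))
  have hL : ∀ x, L x = (Units.val P) *ᵥ ((Qg.val *ᵥ x) ∘ e) := fun x => rfl
  let Q' : QuadraticForm F ((Fin t → Fin k) → F) := κ⁻¹ • R.comp L
  have hQ' : ∀ x, Q' x = κ⁻¹ * R (L x) := fun x => rfl
  have hpol : ∀ x y, QuadraticMap.polar Q' x y = κ⁻¹ * QuadraticMap.polar R (L x) (L y) := fun x y => by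
    simp only [QuadraticMap.polar, hQ', map_add]; ring
  have hcoord : ∀ z, ∃ x, z = L x := fun z =>
    ⟨(Qg⁻¹).val *ᵥ (((Units.val P⁻¹) *ᵥ z) ∘ e.symm), by
      rw [hL, mulVec_inv_cancel, Function.comp_assoc, Equiv.symm_comp_self, Function.comp_id, mulVec_inv_cancel]⟩
  have hinj : ∀ x, L x = 0 → x = 0 := fun x hx => by
    refine mulVec_inj Qg ((funext fun y => ?_).trans (mulVec_zero _).symm)
    rw [hL] at hx
    simpa using congrFun (mulVec_inj P (hx.trans (mulVec_zero _).symm)) (e.symm y)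
  have hquad : Quad J Q' := by
    refine ⟨?_, fun x y => ?_, fun u => ?_⟩
    · have key : ∀ x, (∀ y, QuadraticMap.polar Q' x y = 0) → x = 0 := fun x hx => hinj x <| hR.1 _ fun z => by
        obtain ⟨y, rfl⟩ := hcoord z
        rw [QuadraticMap.polarBilin_apply_apply]
        have h1 := hx y
        rw [hpol, mul_eq_zero] at h1
        exact h1.resolve_left (inv_ne_zero hκ0)
      exact ⟨fun x hx => key x hx, fun y hy => key y fun x => by rw [QuadraticMap.polar_comm]; exact hy x⟩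
    · have e2 : Sy.gram t J = Qg.valᵀ * Sy.gram t (Cfsg.Geo.gramMatrix f₁) * Qg.val := by
        simp only [Qg, J, Sy.gram, pureGL_coe, pure_transpose, ← map_mul]
        rfl
      rw [hpol, hL, hL, hval, e2, ← mulVec_mulVec, ← mulVec_mulVec, dotProduct_mulVec x Qg.valᵀ, vecMul_transpose,
        ← mul_assoc, inv_mul_cancel₀ hκ0, one_mul]
      simp only [dotProduct, mulVec, Sy.gram, pureTensor_apply, Finset.mul_sum, id, mul_assoc]
    · rw [hQ', hL, pureGL_coe, pure_mulVec_pvec, show (pvec fun i => B.val *ᵥ u i) =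
        fun a : Fin t → Fin k => ∏ i, (B.val *ᵥ u i) (a i) from rfl, hpure, mul_zero]
  have hreidx : ∀ (g : GL (Fin t → Fin k) F) (x : (Fin t → Fin k) → F),
      (Cfsg.Geo.glReindex e.symm g).val *ᵥ (x ∘ e) = (g.val *ᵥ x) ∘ e := fun g x => by
    show Matrix.reindexAlgEquiv F F e.symm g.val *ᵥ _ = _
    rw [Matrix.reindexAlgEquiv_apply, Matrix.reindex_apply, Matrix.submatrix_mulVec_equiv]
    simp [Function.comp_assoc]
  have hφ : ∀ g x, (Units.val (φ g)) *ᵥ L x = L (g.val *ᵥ x) := fun g x => by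
    show (P * Cfsg.Geo.glReindex e.symm (Qg * g * Qg⁻¹) * P⁻¹ : GL (Fin n) F).val *ᵥ L x = _
    simp only [hL, Units.val_mul]
    rw [← mulVec_mulVec, ← mulVec_mulVec, mulVec_mulVec _ (P⁻¹).val, ← Units.val_mul, inv_mul_cancel, Units.val_one,
      one_mulVec, hreidx, Units.val_mul, Units.val_mul, ← mulVec_mulVec, ← mulVec_mulVec, mulVec_mulVec _ (Qg⁻¹).val,
      ← Units.val_mul, inv_mul_cancel, Units.val_one, one_mulVec]
  have hmapI : (Cfsg.isometryGroup F ⇑Q').map φ.toMonoidHom = Cfsg.isometryGroup F ⇑R := by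
    ext g
    constructor
    · rintro ⟨x, hx, rfl⟩ z _
      obtain ⟨y, rfl⟩ := hcoord z
      show R ((Units.val (φ x)) *ᵥ L y) = _
      rw [hφ]
      have h1 : Q' (x.val *ᵥ y) = Q' y := hx y y
      rw [hQ', hQ'] at h1
      exact mul_left_cancel₀ (inv_ne_zero hκ0) h1
    · intro hg
      refine ⟨φ.symm g, fun y _ => ?_, φ.apply_symm_apply g⟩
      show Q' ((φ.symm g).val *ᵥ y) = Q' y
      rw [hQ', hQ', ← hφ (φ.symm g) y, φ.apply_symm_apply]
      exact congrArg _ (hg (L y) (L y))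
  have hΩ : ∀ {ι : Type} [Fintype ι] [DecidableEq ι] (S : (ι → F) → F),
      Cfsg.Geo.omegaGL S = ⁅Cfsg.isometryGroup F S, Cfsg.isometryGroup F S⁆ :=
    fun S => Subgroup.map_subtype_commutator _
  have hmap : (Cfsg.Geo.omegaGL ⇑Q').map φ.toMonoidHom = Cfsg.Geo.omegaGL ⇑R := by
    rw [hΩ, hΩ, Subgroup.map_commutator, hmapI]
  obtain ⟨t, rfl⟩ : ∃ t', t = t' + 1 := ⟨t - 1, by omega⟩
  have hn9 : 9 ≤ Fintype.card (Fin (t + 1) → Fin k) := by rw [← Fintype.card_congr e, Fintype.card_fin]; omega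
  have hcore : Cfsg.Geo.IsMaximalIn (Cfsg.Geo.omegaGL ⇑Q') (Wr F k (t + 1) ⊓ Cfsg.Geo.omegaGL ⇑Q') := by
    refine isMaximalIn_of inf_le_right (fun h => not_omega_le hd hquad ht hn9 fun g hg => (h hg).1)
      fun M hM hMK g hgM hg => ?_
    have hO : Over J Q' M := by
      refine ⟨hquad, hMK, fun j h hh => hM ⟨sgl_mem j _, sgl_omega hd hquad hn9 j hh⟩, fun x y => hM ⟨permGL_mem _, ?_⟩⟩
      rw [omegaGL_eq, ← permGL_mul, ← permGL_mul, ← permGL_mul, ← permGL_inv, ← permGL_inv, ← commutatorElement_def]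
      exact Subgroup.commutator_mem_commutator (mem_isometry.2 (perm_quad hquad x)) (mem_isometry.2 (perm_quad hquad y))
    rcases wr_or_omega hd hbig hn9 (fun h => hqt (hodd2 h)) hO with h | h
    · exact absurd ⟨h hgM, hMK hgM⟩ hg
    · exact h
  have h := SubfieldLinear.isMaximalIn_map φ hcore
  rw [Subgroup.map_inf _ _ _ φ.injective, hmap] at h
  convert h using 2
  have hfix : (Wr F k (t + 1)).map (MulAut.conj Qg).toMonoidHom = Wr F k (t + 1) := by
    ext x
    constructor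
    · rintro ⟨y, hy, rfl⟩
      exact mul_mem (mul_mem hQW hy) (inv_mem hQW)
    · intro hx
      exact ⟨Qg⁻¹ * x * Qg, mul_mem (mul_mem (inv_mem hQW) hx) hQW, by simp [mul_assoc]⟩
  rw [Cfsg.Geo.tensorWreathSubgroup, show Cfsg.Geo.tensorWreathStandard k (t + 1) F = Wr F k (t + 1) from rfl]
  conv_lhs => rw [← hfix]
  rw [Subgroup.map_map, Subgroup.map_map]
  rfl

end Cfsg.Agent.TensorWreath.Op
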