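import Cfsg.Agent.Lib.Forms.Max.TensorWreath.SympPlus.Fixed

/-!
# Patterns in stable spaces
-/

set_option autoImplicit false
set_option linter.unusedSectionVars false

namespace Cfsg.Agent.TensorWreath.Op

open Matrix Cfsg.Agent.Aschbacher Cfsg.Agent.Forms.Max Cfsg.Agent.Forms.Max.SympTools Cfsg.Agent.TensorWreath.Sy

variable {F : Type*} [Field F] [Fintype F] {k t : ℕ} {J : Matrix (Fin k) (Fin k) F} {a b : Fin k}

theorem ne_single (p : Fin k) : (Pi.single p 1 : Fin k → F) ≠ 0 := fun e => by simpa using congrFun e p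

theorem mid_zero (hd : Hyp J a b) (h4 : ¬ 4 ≤ k) {x : Fin k → F} (hx : x ∈ mid F a b) : x = 0 := by
  have h2 := hd.hk.resolve_right h4
  funext p
  have : p = a ∨ p = b := by
    subst h2; have := hd.hab; fin_cases p <;> fin_cases a <;> fin_cases b <;> simp_all
  rcases this with rfl | rfl
  exacts [(mem_mid.1 hx).1, (mem_mid.1 hx).2]

/-- a pure tensor with an off-diagonal entry in one slot is not scalar -/
theorem pure_not_scalar {X : Fin t → Matrix (Fin k) (Fin k) F} (h : ∀ i, X i ≠ 0) {i : Fin t} {p q : Fin k}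
    (hpq : p ≠ q) (he : X i p q ≠ 0) (r : F) : pureTensor X ≠ r • 1 := by
  classical
  have h' : ∀ l, ∃ u v, X l u v ≠ 0 := fun l => by
    by_contra hc
    push Not at hc
    exact h l (Matrix.ext hc)
  choose u v huv using h'
  intro e
  have h1 := congrFun (congrFun e (Function.update u i p)) (Function.update v i q)
  rw [pureTensor_apply, Matrix.smul_apply, Matrix.one_apply_ne fun h2 => hpq (by simpa using congrFun h2 i), smul_zero] at h1
  refine Finset.prod_ne_zero_iff.2 (fun l _ => ?_) h1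
  rcases eq_or_ne l i with rfl | hl
  · simpa using he
  · simpa [Function.update_of_ne hl] using huv l

variable (hd : Hyp J a b)
include hd

/-- a finite difference of the quadratic map `Nm` -/
theorem Nm_third (x y z : Fin k → F) :
    Nm J (x + y + z) - Nm J (x + y) - Nm J (x + z) - Nm J (y + z) + Nm J x + Nm J y + Nm J z = 0 := by
  simp only [Nm, phi_add, add_vecMulVec, vecMulVec_add]
  abel

/-- three vectors with non-zero partial sums, the first being `a` -/
theorem exists_triple : ∃ y z : Fin k → F, y ≠ 0 ∧ z ≠ 0 ∧ Pi.single a 1 + y ≠ 0 ∧ Pi.single a 1 + z ≠ 0 ∧ y + z ≠ 0 ∧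
    Pi.single a 1 + y + z ≠ 0 := by
  have hab := hd.hab
  rcases hd.ch with h2 | h6
  · refine ⟨Pi.single b 1, Pi.single a 1 + Pi.single b 1, ne_single b, ?_, ?_, ?_, ?_, ?_⟩ <;> intro e
    · simpa [hab] using congrFun e a
    · simpa [hab] using congrFun e a
    · refine one_ne_zero (α := F) ?_; simpa [hab.symm] using congrFun e b
    · refine one_ne_zero (α := F) ?_; simpa [hab] using congrFun e a
    · exact h2 (by simpa [hab, one_add_one_eq_two] using congrFun e a)
  · obtain ⟨u, hu, -, -, hu0, -, -⟩ := exists_mid_pair hd (by omega)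
    obtain ⟨ua, ub⟩ := mem_mid.1 hu
    refine ⟨Pi.single b 1, u, ne_single b, hu0, ?_, ?_, ?_, ?_⟩ <;> intro e
    · simpa [hab] using congrFun e a
    · simpa [ua] using congrFun e a
    · simpa [ub] using congrFun e b
    · simpa [ua, hab] using congrFun e a

variable {f : Fin k → F} (hf : Mv a b f)

theorem sm_offdiag {s : Fin 3} (hs : s ≠ 0) (hf' : s = 2 → f ≠ 0) (hfm : Mv a b f) :
    ∃ p q, p ≠ q ∧ sm J a b f s p q ≠ 0 := by
  by_contra hc
  push Not at hc
  refine sm_ne hd hfm hf' ?_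
  fin_cases s
  · exact absurd rfl hs
  · exact absurd (hc a b hd.hab) (by simp [sm])
  · show Qm J (Pi.single a 1) f = 0
    ext p q
    rcases eq_or_ne p q with rfl | hpq
    · obtain ⟨hfa, hfb⟩ := mem_mid.1 hfm.mem
      simp only [Qm, Matrix.sub_apply, vecMulVec_apply, phi_a hd, Pi.neg_apply, Matrix.zero_apply, Pi.single_apply]
      split_ifs with h1 h2 h3
      · exact absurd (h1.symm.trans h2) hd.hab
      · rw [h1, phi_at_a hd, hfb]; ring
      · rw [h3, hfb]; ring
      · ring
    · exact hc p q hpq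

include hf

/-- every non-zero fixed element gives a pattern -/
theorem pattern_fixed : ∀ (t : ℕ) (V : Submodule F (Matrix (Fin t → Fin k) (Fin t → Fin k) F)), Spc J V →
    ∀ Y ∈ V, (∀ (j : Fin t), ∀ x ∈ Gens J a b f, S j x * Y = Y * S j x) → Y ≠ 0 →
      ∃ T : Fin t → Fin 3, (∀ i, T i = 2 → f ≠ 0) ∧ pat J a b f T ∈ V ∧ ((∀ r : F, Y ≠ r • 1) → ∃ i, T i ≠ 0) := by
  intro t
  induction t with
  | zero =>
    intro V _ Y hY _ hY0
    have e1 : (pat J a b f (fun i : Fin 0 => (0 : Fin 3)) : Matrix (Fin 0 → Fin k) (Fin 0 → Fin k) F) = 1 := by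
      rw [pat]; exact (congrArg pureTensor (funext fun i => i.elim0)).trans (map_one _)
    have eY : Y = Y (fun i => i.elim0) (fun i => i.elim0) • (1 : Matrix _ _ F) := by
      ext p q
      obtain rfl : p = fun i => i.elim0 := funext fun i => i.elim0
      obtain rfl : q = fun i => i.elim0 := funext fun i => i.elim0
      simp
    refine ⟨fun _ => 0, fun i => i.elim0, ?_, fun h => absurd eY (h _)⟩
    rw [e1]
    have hc : Y (fun i => i.elim0) (fun i => i.elim0) ≠ 0 := fun h => hY0 (by rw [eY, h, zero_smul])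
    have := V.smul_mem (Y (fun i => i.elim0) (fun i => i.elim0))⁻¹ (eY ▸ hY)
    rwa [inv_smul_smul₀ hc] at this
  | succ t ih =>
    intro V hV Y hY hfx hY0
    obtain ⟨Y0, Y1, Y2, hYe, hf2, hfx'⟩ := split_fixed hd hf hfx
    -- conjugating the first slot
    have hmove : ∀ {g : GL (Fin k) F}, g ∈ Sl J → ∀ {z : Matrix (Fin k) (Fin k) F}
        {M : Matrix (Fin t → Fin k) (Fin t → Fin k) F}, S 0 z * lift M ∈ V → S 0 (conjMat g z) * lift M ∈ V := by
      intro g hg z M h
      have h1 := hV.conj 0 g hg _ h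
      rwa [map_mul (conjMat _), show conjMat (sgl (0 : Fin (t + 1)) g) (S 0 z) = S 0 (conjMat g z) by
          rw [conjMat_apply, ← map_inv, sgl_coe, sgl_coe, ← map_mul, ← map_mul, ← conjMat_apply],
        show conjMat (sgl (0 : Fin (t + 1)) g) (lift M) = lift M from
          (conjMat_eq_iff_mul ..).2 (by rw [sgl_coe]; exact S0_lift_comm _ _)] at h1
    have hconjY : ∀ {g : GL (Fin k) F}, g ∈ Sl J →
        S 0 (conjMat g (Matrix.single a b 1) - Matrix.single a b 1) * lift Y1 +
          S 0 (conjMat g (Qm J (Pi.single a 1) f) - Qm J (Pi.single a 1) f) * lift Y2 ∈ V := by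
      intro g hg
      have h1 := sub_mem (hV.conj 0 g hg _ hY) hY
      rw [hYe, map_add, map_add, map_mul (conjMat _), map_mul (conjMat _)] at h1
      have e1 : ∀ z, conjMat (sgl (0 : Fin (t + 1)) g) (S 0 z) = S 0 (conjMat g z) := fun z => by
        rw [conjMat_apply, ← map_inv, sgl_coe, sgl_coe, ← map_mul, ← map_mul, ← conjMat_apply]
      have e2 : ∀ M, conjMat (sgl (0 : Fin (t + 1)) g) (lift M) = lift M := fun M =>
        (conjMat_eq_iff_mul ..).2 (by rw [sgl_coe]; exact S0_lift_comm _ _)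
      rw [e1, e1, e2, e2, e2] at h1
      convert h1 using 1
      rw [map_sub, map_sub, sub_mul, sub_mul]
      abel
    -- finishing from one coefficient
    have fin : ∀ (s : Fin 3), (s = 2 → f ≠ 0) → ∀ Z ∈ ({Y0, Y1, Y2} : Set _), Z ≠ 0 →
        S 0 (sm J a b f s) * lift Z ∈ V → (s = 0 → ∀ r : F, Z = r • 1 → Y = r • 1) →
        ∃ T : Fin (t + 1) → Fin 3, (∀ i, T i = 2 → f ≠ 0) ∧ pat J a b f T ∈ V ∧
          ((∀ r : F, Y ≠ r • 1) → ∃ i, T i ≠ 0) := by
      intro s hs Z hZ hZ0 hmem hsc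
      obtain ⟨T, hT, hTm, hne⟩ := ih _ (hV.down _) Z (mem_down.2 hmem) (hfx' Z hZ) hZ0
      refine ⟨Fin.cons s T, Fin.cases (by simpa using hs) (by simpa using hT), by rw [pat_cons]; exact hTm, fun hns => ?_⟩
      by_cases hs0 : s = 0
      · obtain ⟨i, hi⟩ := hne fun r hr => hns r (hsc hs0 r hr)
        exact ⟨i.succ, by rw [Fin.cons_succ]; exact hi⟩
      · exact ⟨0, by simpa using hs0⟩
    by_cases h2 : Y2 = 0
    swap
    · have hf0 : f ≠ 0 := fun e => h2 (hf2 e)
      obtain ⟨g, hg, hfg⟩ : ∃ g ∈ mid F a b, frm J f g ≠ 0 := by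
        by_contra hc
        push Not at hc
        exact hf0 (mid_nondeg hd f hf.mem hc)
      have hg0 : g ≠ 0 := fun e => hfg (by rw [e, zero_right hd.sp])
      have hfg0 : f + g ≠ 0 := fun e => hfg (by
        rw [eq_neg_of_add_eq_zero_right e, neg_right hd.sp, hd.sp.alt, neg_zero])
      obtain ⟨x, hx, hxa, hxb, hxf⟩ := exists_mid_move hd hf.mem (add_mem hf.mem hg) hf0 hfg0
      have hxE : conjMat x (Matrix.single a b (1 : F)) = Matrix.single a b 1 := by
        rw [← neg_neg (Matrix.single a b (1 : F)), ← Nm_a hd, map_neg, conj_Nm hd hx, hxa]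
      have h1 := hconjY hx
      rw [hxE, sub_self, map_zero, zero_mul, zero_add, conj_Qm hd hx, hxa, hxf, Qm_add_right hd, add_sub_cancel_left] at h1
      obtain ⟨y, hy, hya, -, hyf⟩ := exists_mid_move hd hg hf.mem hg0 hf0
      have h3 := hmove hy h1
      rw [conj_Qm hd hy, hya, hyf] at h3
      exact fin 2 (fun _ => hf0) Y2 (by simp) h2 h3 (fun h => absurd h (by decide))
    subst h2
    by_cases h1 : Y1 = 0
    swap
    · let W : Submodule F (Matrix (Fin k) (Fin k) F) :=
        V.comap ((LinearMap.mulRight F (lift Y1)).comp (S (F := F) (m := k) (0 : Fin (t + 1))).toLinearMap)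
      have hW : ∀ z, z ∈ W ↔ S 0 z * lift Y1 ∈ V := fun z => Iff.rfl
      have hA0 : (Pi.single a 1 : Fin k → F) ≠ 0 := ne_single a
      have hd' : ∀ v : Fin k → F, v ≠ 0 → Nm J v - Nm J (Pi.single a 1) ∈ W := fun v hv => by
        obtain ⟨g, hg, hge⟩ := exists_moveS hd hA0 hv
        have h3 := hconjY hg
        rw [map_zero, mul_zero, add_zero] at h3
        rw [hW, ← neg_mem_iff]
        convert h3 using 1
        rw [show Matrix.single a b (1 : F) = -Nm J (Pi.single a 1) by rw [Nm_a hd, neg_neg], map_neg (conjMat g),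
          conj_Nm hd hg, hge, ← neg_mul, ← map_neg]
        congr 2
        abel
      obtain ⟨y, z, hy, hz, hay, haz, hyz, hayz⟩ := exists_triple hd
      have h3 := W.sub_mem (W.sub_mem (W.sub_mem (W.add_mem (W.add_mem (hd' _ hayz) (hd' _ hy)) (hd' _ hz)) (hd' _ hay))
        (hd' _ haz)) (hd' _ hyz)
      have e : Matrix.single a b (1 : F) ∈ W := by
        convert h3 using 1
        rw [show Matrix.single a b (1 : F) = -Nm J (Pi.single a 1) by rw [Nm_a hd, neg_neg], ← sub_eq_zero,
          ← neg_eq_zero, ← Nm_third hd (Pi.single a 1) y z]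
        abel
      exact fin 1 (fun h => absurd h (by decide)) Y1 (by simp) h1 e (fun h => absurd h (by decide))
    subst h1
    simp only [map_zero, mul_zero, add_zero] at hYe
    refine fin 0 (fun h => absurd h (by decide)) Y0 (by simp) (fun e => hY0 (by rw [hYe, e, map_zero])) ?_ fun _ r hr => ?_
    · show S 0 1 * lift Y0 ∈ V
      rw [map_one, one_mul, ← hYe]
      exact hY
    · rw [hYe, hr, map_smul, map_one]

/-- a non-scalar element gives a pattern with an active slot -/
theorem exists_pattern {V : Submodule F (Matrix (Fin t → Fin k) (Fin t → Fin k) F)} (hV : Spc J V)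
    {Y : Matrix (Fin t → Fin k) (Fin t → Fin k) F} (hY : Y ∈ V) (hns : ∀ r : F, Y ≠ r • 1) :
    ∃ T : Fin t → Fin 3, (∀ i, T i = 2 → f ≠ 0) ∧ pat J a b f T ∈ V ∧ ∃ i, T i ≠ 0 := by
  obtain ⟨Y', hY', hns', hfx⟩ := exists_fixed hd hf hV hY hns
  obtain ⟨T, hT, hm, hne⟩ := pattern_fixed hd hf t V hV Y' hY' hfx fun e => hns' 0 (by rw [e, zero_smul])
  exact ⟨T, hT, hm, hne hns'⟩

/-- a non-scalar matrix is moved off itself by more than a scalar -/
theorem exists_moved {R : Matrix (Fin t → Fin k) (Fin t → Fin k) F} (hns : ∀ r : F, R ≠ r • 1) :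
    ∃ (j : Fin t) (h : GL (Fin k) F), h ∈ Sl J ∧ ∀ r : F, conjMat (sgl j h) R - R ≠ r • 1 := by
  classical
  by_contra hc
  push Not at hc
  let V : Submodule F (Matrix (Fin t → Fin k) (Fin t → Fin k) F) := Submodule.span F {1, R}
  have hV : Spc J V := ⟨fun j h hh Y hY => by
    obtain ⟨x, y, rfl⟩ := Submodule.mem_span_pair.1 hY
    obtain ⟨r, hr⟩ := hc j h hh
    rw [sub_eq_iff_eq_add] at hr
    rw [map_add, map_smul, map_smul, map_one, hr]
    exact Submodule.mem_span_pair.2 ⟨x + y * r, y, by module⟩⟩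
  obtain ⟨T, hT, hTm, i, hi⟩ := exists_pattern hd hf hV (Y := R) (Submodule.subset_span (by simp)) hns
  obtain ⟨x, y, hxy⟩ := Submodule.mem_span_pair.1 hTm
  -- an element moving the pattern
  obtain ⟨h, hh, p, q, hpq, hne⟩ : ∃ h ∈ Sl J, ∃ p q, p ≠ q ∧ (conjMat h (sm J a b f (T i)) - sm J a b f (T i)) p q ≠ 0 := by
    obtain ⟨x, hx, hxa, -, -⟩ := exists_flip hd hf
    rcases (by omega : (T i).val = 0 ∨ (T i).val = 1 ∨ (T i).val = 2) with h0 | h1 | h2
    · exact absurd (Fin.ext h0) hi
    · have e : T i = 1 := Fin.ext h1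
      refine ⟨x, hx, a, b, hd.hab, ?_⟩
      rw [e, show sm J a b f 1 = Matrix.single a b 1 from rfl, conj_flip_single hd hf hx hxa]
      simp [hd.hab, hd.hab.symm]
    · have e : T i = 2 := Fin.ext h2
      have hf0 : f ≠ 0 := hT i e
      obtain ⟨g, hg, hfg⟩ : ∃ g ∈ mid F a b, frm J f g ≠ 0 := by
        by_contra hc'
        push Not at hc'
        exact hf0 (mid_nondeg hd f hf.mem hc')
      have hg0 : g ≠ 0 := fun e => hfg (by rw [e, zero_right hd.sp])
      have hfg0 : f + g ≠ 0 := fun e => hfg (by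
        rw [eq_neg_of_add_eq_zero_right e, neg_right hd.sp, hd.sp.alt, neg_zero])
      obtain ⟨x, hx, hxa, -, hxf⟩ := exists_mid_move hd hf.mem (add_mem hf.mem hg) hf0 hfg0
      refine ⟨x, hx, ?_⟩
      rw [e, show sm J a b f 2 = Qm J (Pi.single a 1) f from rfl, conj_Qm hd hx, hxa, hxf, Qm_add_right hd, add_sub_cancel_left]
      exact sm_offdiag hd (f := g) (s := 2) (by decide) (fun _ => hg0) ⟨hg, fun _ => hg0⟩
  obtain ⟨r, hr⟩ := hc i h hh
  have h1 : conjMat (sgl i h) (pat J a b f T) - pat J a b f T = (y * r) • 1 := by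
    rw [← hxy, map_add, map_smul, map_smul, map_one, mul_smul, ← hr, smul_sub]
    abel
  have h2 : conjMat (sgl i h) (pat J a b f T) - pat J a b f T = pureTensor (Function.update (fun l => sm J a b f (T l)) i
      (conjMat h (sm J a b f (T i)) - sm J a b f (T i))) := by
    rw [sub_eq_iff_eq_add, pat, sgl_eq, conj_pure_pureT]
    conv_rhs => arg 2; rw [← Function.update_eq_self i fun l => sm J a b f (T l)]
    rw [← pure_update_add, sub_add_cancel]
    congr 1
    funext l
    rcases eq_or_ne l i with rfl | hl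
    · simp
    · simp [Pi.mulSingle_eq_of_ne hl, Function.update_of_ne hl, conjMat_apply]
  refine pure_not_scalar (fun l => ?_) hpq (i := i) (by simpa using hne) (y * r) (h2.symm.trans h1)
  rcases eq_or_ne l i with rfl | hl
  · rw [Function.update_self]; exact fun e => hne (by rw [e, Matrix.zero_apply])
  · rw [Function.update_of_ne hl]; exact sm_ne hd hf (hT l)

end Cfsg.Agent.TensorWreath.Op
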