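import Cfsg.Agent.Lib.Forms.Max.TensorWreath.SympPlus.Setting
import Cfsg.Agent.Lib.Forms.Max.TensorWreath.SympPlus.Pattern

/-!
# Commutators of pure displacements
-/

set_option autoImplicit false
set_option linter.unusedSectionVars false

namespace Cfsg.Agent.TensorWreath.Op

open Matrix Cfsg.Agent.Aschbacher Cfsg.Agent.Forms.Max Cfsg.Agent.Forms.Max.SympTools Cfsg.Agent.TensorWreath.Sy

variable {F : Type*} [Field F] [Fintype F] {k t : ℕ} {J : Matrix (Fin k) (Fin k) F} {a b : Fin k}

/-- an additive group containing all squares is everything -/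
theorem scal_all (S : AddSubgroup F) (h : ∀ l : F, l ≠ 0 → l * l ∈ S) (r : F) : r ∈ S := by
  have hsq : ∀ l : F, l * l ∈ S := fun l => by
    rcases eq_or_ne l 0 with rfl | hl
    · rw [mul_zero]; exact zero_mem _
    · exact h l hl
  by_cases h2 : (2 : F) = 0
  · obtain ⟨l, rfl⟩ := FiniteField.isSquare_of_char_two (ringChar.eq_iff.2 (CharTwo.of_one_ne_zero_of_two_eq_zero one_ne_zero h2)) r
    exact hsq l
  · rw [show r = (r + 1) / 2 * ((r + 1) / 2) - (r - 1) / 2 * ((r - 1) / 2) by field_simp; ring]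
    exact sub_mem (hsq _) (hsq _)

variable {Q : QuadraticForm F ((Fin t → Fin k) → F)} {G : Subgroup (GL (Fin t → Fin k) F)}

/-- a displacement realised in the group -/
def Mem (G : Subgroup (GL (Fin t → Fin k) F)) (M : Matrix (Fin t → Fin k) (Fin t → Fin k) F) : Prop :=
  ∃ g ∈ G, g.val = 1 + M

theorem mem_zero : Mem G 0 := ⟨1, one_mem _, by rw [Units.val_one, add_zero]⟩

variable {M N : Matrix (Fin t → Fin k) (Fin t → Fin k) F}

theorem inv_val {g : GL (Fin t → Fin k) F} (hg : g.val = 1 + M) (hM : M * M = 0) : (g⁻¹).val = 1 - M := by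
  refine Units.inv_eq_of_mul_eq_one_right ?_
  rw [hg, add_mul, one_mul, mul_sub, mul_one, hM]
  abel

theorem Mem.add (h : Mem G M) (h' : Mem G N) (e : M * N = 0) : Mem G (M + N) := by
  obtain ⟨g, hg, hgv⟩ := h
  obtain ⟨g', hg', hgv'⟩ := h'
  exact ⟨g * g', mul_mem hg hg', by rw [Units.val_mul, hgv, hgv', add_mul, one_mul, mul_add, mul_one, e]; abel⟩

theorem Mem.neg (h : Mem G M) (e : M * M = 0) : Mem G (-M) := by
  obtain ⟨g, hg, hgv⟩ := h
  exact ⟨g⁻¹, inv_mem hg, by rw [inv_val hgv e, sub_eq_add_neg]⟩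

theorem Mem.conj {w : GL (Fin t → Fin k) F} (hw : w ∈ G) (h : Mem G M) : Mem G (conjMat w M) := by
  obtain ⟨g, hg, hgv⟩ := h
  exact ⟨w * g * w⁻¹, mul_mem (mul_mem hw hg) (inv_mem hw), by rw [← conjMat_units, hgv, map_add, map_one]⟩

theorem Mem.diff {w : GL (Fin t → Fin k) F} (hw : w ∈ G) (h : Mem G M) (e : M * M = 0) (e' : conjMat w M * M = 0) :
    Mem G (conjMat w M - M) := by
  rw [sub_eq_add_neg]
  exact (h.conj hw).add (h.neg e) (by rw [mul_neg, e', neg_zero])

theorem Mem.comm (h : Mem G M) (h' : Mem G N) (eM : M * M = 0) (eN : N * N = 0) (e1 : M * N * M = 0)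
    (e2 : N * M * N = 0) : Mem G (M * N - N * M) := by
  obtain ⟨g, hg, hgv⟩ := h
  obtain ⟨g', hg', hgv'⟩ := h'
  refine ⟨g * g' * g⁻¹ * g'⁻¹, mul_mem (mul_mem (mul_mem hg hg') (inv_mem hg)) (inv_mem hg'), ?_⟩
  simp only [Units.val_mul, hgv, hgv', inv_val hgv eM, inv_val hgv' eN, mul_add, add_mul, mul_sub, sub_mul,
    one_mul, mul_one, eM, eN, e1, e2, zero_mul, sub_zero, zero_sub]
  noncomm_ring [eM, eN, e1, e2]

theorem pure_mul_zero {X Y : Fin t → Matrix (Fin k) (Fin k) F} {d : Fin t} (e : X d * Y d = 0) :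
    pureTensor X * pureTensor Y = 0 := by
  rw [← map_mul]
  exact pure_zero _ d e

theorem pure_update_smul (X : Fin t → Matrix (Fin k) (Fin k) F) (j : Fin t) (r : F) (z : Matrix (Fin k) (Fin k) F) :
    pureTensor (Function.update X j (r • z)) = r • pureTensor (Function.update X j z) := by
  classical
  rw [show Function.update X j (r • z) = fun i => (if i = j then r else 1) • Function.update X j z i from funext fun i => by
    rcases eq_or_ne i j with rfl | hi
    · simp
    · simp [hi], pure_smul_slot]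
  simp

theorem conj_sgl_pure (j : Fin t) (h : GL (Fin k) F) (X : Fin t → Matrix (Fin k) (Fin k) F) :
    conjMat (sgl j h) (pureTensor X) = pureTensor (Function.update X j (conjMat h (X j))) := by
  classical
  rw [sgl_eq, conj_pure_pureT]
  congr 1
  funext l
  rcases eq_or_ne l j with rfl | hl
  · simp
  · simp [Pi.mulSingle_eq_of_ne hl, Function.update_of_ne hl, conjMat_apply]

/-- a product of two transpositions -/
theorem Over.swaps (hG : Over J Q G) {p q r s : Fin t} (hpq : p ≠ q) (hrs : r ≠ s) :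
    permGL (Equiv.swap p q * Equiv.swap r s) ∈ G := by
  set y : Equiv.Perm (Fin t) := Equiv.swap (Equiv.swap p r q) s * Equiv.swap p r
  have hq : r ≠ Equiv.swap p r q := fun e => hpq (by
    have := congrArg (Equiv.swap p r) e
    rwa [Equiv.swap_apply_self, Equiv.swap_apply_right] at this)
  have y1 : y p = r := by
    simp only [y, Equiv.Perm.mul_apply, Equiv.swap_apply_left]
    exact Equiv.swap_apply_of_ne_of_ne hq hrs
  have y2 : y q = s := by simp [y]
  have h := hG.comm (Equiv.swap p q) y
  rwa [Equiv.swap_inv, show Equiv.swap p q * y * Equiv.swap p q * y⁻¹ = Equiv.swap p q * (y * Equiv.swap p q * y⁻¹) by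
    group, ← Equiv.swap_apply_apply, y1, y2] at h

variable (hd : Hyp J a b) {f : Fin k → F} (hf : Mv a b f)
include hd hf

/-- torus elements scale slot values by squares -/
theorem torus_sm {s : Fin 3} (hs : s ≠ 0) {l : F} (hl : l ≠ 0) :
    ∃ x ∈ Sl J, conjMat x (sm J a b f s) = (l * l) • sm J a b f s := by
  rcases (by omega : s.val = 0 ∨ s.val = 1 ∨ s.val = 2) with h0 | h1 | h2
  · exact absurd (Fin.ext h0) hs
  · obtain ⟨x, hx, hxa, -, -⟩ := exists_torus hd hl
    refine ⟨x, hx, ?_⟩
    rw [show s = 1 from Fin.ext h1, show sm J a b f 1 = Matrix.single a b 1 from rfl,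
      show Matrix.single a b (1 : F) = -Nm J (Pi.single a 1) by rw [Nm_a hd, neg_neg], map_neg, conj_Nm hd hx, hxa,
      Nm_smul, smul_neg]
  · obtain ⟨x, hx, hxa, -, hxm⟩ := exists_torus hd (mul_ne_zero hl hl)
    refine ⟨x, hx, ?_⟩
    rw [show s = 2 from Fin.ext h2, show sm J a b f 2 = Qm J (Pi.single a 1) f from rfl, conj_Qm hd hx, hxa, hxm f hf.mem]
    simp only [Qm, phi_smul, vecMulVec_smul, smul_vecMulVec, smul_sub]

/-- all multiples -/
theorem mem_scale (hG : Over J Q G) {X : Fin t → Matrix (Fin k) (Fin k) F} {d : Fin t} {s : Fin 3} (hs : s ≠ 0)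
    (hX : X d = sm J a b f s) {c : F} (hc : c ≠ 0) (h : Mem G (c • pureTensor X)) (r : F) : Mem G (r • pureTensor X) := by
  have hsq : ∀ u v : F, u • pureTensor X * v • pureTensor X = 0 := fun u v => by
    rw [smul_mul_smul_comm, pure_mul_zero (d := d) (by rw [hX]; exact sm_sq hd hf hs), smul_zero]
  let S : AddSubgroup F :=
    { carrier := {u | Mem G ((u * c) • pureTensor X)}
      zero_mem' := by rw [Set.mem_setOf_eq, zero_mul, zero_smul]; exact mem_zero
      add_mem' := fun {u v} hu hv => by rw [Set.mem_setOf_eq, add_mul, add_smul]; exact hu.add hv (hsq _ _)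
      neg_mem' := fun {u} hu => by rw [Set.mem_setOf_eq, neg_mul, neg_smul]; exact hu.neg (hsq _ _) }
  have hS : ∀ l : F, l ≠ 0 → l * l ∈ S := fun l hl => by
    obtain ⟨x, hx, hxe⟩ := torus_sm hd hf hs hl
    show Mem G _
    have h1 := h.conj (hG.base d x hx)
    rwa [map_smul, conj_sgl_pure, hX, hxe, pure_update_smul, ← hX, Function.update_eq_self, smul_smul, mul_comm c] at h1
  have h2 : Mem G ((r / c * c) • pureTensor X) := scal_all S hS (r / c)
  rwa [div_mul_cancel₀ r hc] at h2

/-- the values of one slot over fixed values in the other slots -/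
def slotV (hG : Over J Q G) (W : Fin t → Matrix (Fin k) (Fin k) F) (j d : Fin t) (hdj : d ≠ j) (s : Fin 3) (hs : s ≠ 0)
    (hW : W d = sm J a b f s) : Submodule F (Matrix (Fin k) (Fin k) F) where
  carrier := {z | Mem G (pureTensor (Function.update W j z))}
  zero_mem' := by
    rw [Set.mem_setOf_eq, pure_zero _ j (by simp)]
    exact mem_zero
  add_mem' := fun {y z} hy hz => by
    rw [Set.mem_setOf_eq, pure_update_add]
    exact hy.add hz (pure_mul_zero (d := d) (by simp only [Function.update_of_ne hdj, hW]; exact sm_sq hd hf hs))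
  smul_mem' := fun r z hz => by
    rw [Set.mem_setOf_eq, pure_update_smul]
    exact mem_scale hd hf hG (d := d) hs (by rw [Function.update_of_ne hdj, hW]) one_ne_zero
      (by rw [one_smul]; exact hz) r

/-- a slot value gives a pattern value -/
theorem slot_pattern (hG : Over J Q G) {W : Fin t → Matrix (Fin k) (Fin k) F} {j d : Fin t} (hdj : d ≠ j) {s : Fin 3}
    (hs : s ≠ 0) (hW : W d = sm J a b f s) {z : Matrix (Fin k) (Fin k) F} (hz0 : z ≠ 0)
    (hz : Mem G (pureTensor (Function.update W j z))) :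
    ∃ u : Fin 3, (u = 2 → f ≠ 0) ∧ Mem G (pureTensor (Function.update W j (sm J a b f u))) ∧
      ((∀ r : F, z ≠ r • 1) → u ≠ 0) := by
  classical
  set V := slotV hd hf hG W j d hdj s hs hW
  have hzV : z ∈ V := hz
  by_cases hsc : ∃ r : F, z = r • 1
  · obtain ⟨r, rfl⟩ := hsc
    have hr : r ≠ 0 := fun e => hz0 (by rw [e, zero_smul])
    refine ⟨0, fun h => absurd h (by decide), ?_, fun h => absurd rfl (h r)⟩
    have h1 := V.smul_mem r⁻¹ hzV
    rw [inv_smul_smul₀ hr] at h1
    exact h1
  push Not at hsc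
  haveI : Nonempty (Fin 1 → Fin k) := ⟨fun _ => a⟩
  have hinj : Function.Injective (S (F := F) (m := k) (0 : Fin 1)) := algHom_matrix_injective _
  have hV' : Spc J (V.map (S (F := F) (m := k) (0 : Fin 1)).toLinearMap) := by
    refine ⟨fun i h hh Y hY => ?_⟩
    obtain ⟨y, hy, rfl⟩ := Submodule.mem_map.1 hY
    refine Submodule.mem_map.2 ⟨conjMat h y, ?_, ?_⟩
    · show Mem G _
      have h1 := (show Mem G (pureTensor (Function.update W j y)) from hy).conj (hG.base j h hh)
      rwa [conj_sgl_pure, Function.update_self, Function.update_idem] at h1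
    · rw [Subsingleton.elim i 0, sgl_eq, AlgHom.toLinearMap_apply, AlgHom.toLinearMap_apply, conj_pure_S,
        Pi.mulSingle_eq_same]
  obtain ⟨T, hT, hTm, i, hi⟩ := exists_pattern hd hf hV' (Submodule.mem_map.2 ⟨z, hzV, rfl⟩) (fun r hr => hsc r (hinj (by
    rw [map_smul, map_one]; exact hr)))
  rw [Subsingleton.elim i 0] at hi
  obtain ⟨z', hz', e⟩ := Submodule.mem_map.1 hTm
  refine ⟨T 0, hT 0, ?_, fun _ => hi⟩
  have e' : pat J a b f T = S (0 : Fin 1) (sm J a b f (T 0)) := by
    rw [pat, slotHom_apply]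
    congr 1
    funext l
    rw [Subsingleton.elim l 0, Pi.mulSingle_eq_same]
  rw [← hinj (e.trans e')]
  exact hz'

/-- mixtures of two projector patterns give roots -/
theorem mix (hG : Over J Q G) {d : Fin t} (C : Finset (Fin t)) :
    ∀ (W W' : Fin t → Matrix (Fin k) (Fin k) F) (x y : F), d ∉ C → W d = W' d → W d * W d = 0 →
      Mem G (x • pureTensor (put C (Matrix.single a a 1) W) + y • pureTensor (put C (Matrix.single b b 1) W')) →
      Mem G (((-1) ^ C.card * x) • pureTensor (put C (Matrix.single a b 1) W) +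
        y • pureTensor (put C (Matrix.single a b 1) W')) := by
  classical
  induction C using Finset.induction with
  | empty =>
    intro W W' x y _ _ _ h
    have e : ∀ Z : Matrix (Fin k) (Fin k) F, ∀ W : Fin t → Matrix (Fin k) (Fin k) F, put (∅ : Finset (Fin t)) Z W = W :=
      fun Z W => funext fun i => by simp [put]
    simpa [e] using h
  | @insert i C hi ih =>
    intro W W' x y hdC hWW hsq h
    have hdi : d ≠ i := fun e => hdC (by simp [e])
    have hdC' : d ∉ C := fun e => hdC (Finset.mem_insert_of_mem e)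
    set E := Matrix.single a b (1 : F) with hE
    set s := tvS hd (Pi.single a 1) (-1 : F)
    have hsE : s.val = 1 + E := by rw [tvS_coe, Nm_a hd, neg_one_smul, neg_neg]
    have hEE : E * E = 0 := Matrix.single_mul_single_of_ne _ _ _ _ hd.hab.symm _
    have hsi : (s⁻¹).val = 1 - E := by
      refine Units.inv_eq_of_mul_eq_one_right ?_
      rw [hsE, add_mul, one_mul, mul_sub, mul_one, hEE]
      abel
    have hA : conjMat s (Matrix.single a a (1 : F)) = Matrix.single a a 1 + -E := by
      rw [conjMat_apply, hsE, hsi, hE]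
      simp only [add_mul, mul_sub, sub_mul, one_mul, mul_one, Matrix.single_mul_single_same,
        Matrix.single_mul_single_of_ne _ _ _ _ hd.hab.symm, zero_mul]
      abel
    have hB : conjMat s (Matrix.single b b (1 : F)) = Matrix.single b b 1 + E := by
      rw [conjMat_apply, hsE, hsi, hE]
      simp only [add_mul, mul_sub, sub_mul, one_mul, mul_one, Matrix.single_mul_single_same,
        Matrix.single_mul_single_of_ne _ _ _ _ hd.hab.symm, zero_mul]
      abel
    have hu : ∀ (W : Fin t → Matrix (Fin k) (Fin k) F) Z Z',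
        Function.update (put (insert i C) Z W) i Z' = put C Z (Function.update W i Z') := fun W Z Z' => by
      funext l
      rcases eq_or_ne l i with rfl | hl
      · simp [put, hi]
      · simp [put, hl]
    have hWd : W' d * W' d = 0 := by rw [← hWW]; exact hsq
    have hslot : ∀ (W : Fin t → Matrix (Fin k) (Fin k) F) Z, put (insert i C) Z W d = W d := fun W Z => by
      simp [put, hdi, hdC']
    have hprod : ∀ (W1 W2 : Fin t → Matrix (Fin k) (Fin k) F), W1 d = W d → W2 d = W d →
        pureTensor W1 * pureTensor W2 = 0 := fun W1 W2 e1 e2 => pure_mul_zero (d := d) (by rw [e1, e2]; exact hsq)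
    set P := pureTensor (put (insert i C) (Matrix.single a a 1) W)
    set P' := pureTensor (put (insert i C) (Matrix.single b b 1) W')
    have hcP : conjMat (sgl i s) P = P + pureTensor (put C (Matrix.single a a 1) (Function.update W i (-E))) := by
      rw [conj_sgl_pure, show put (insert i C) (Matrix.single a a (1 : F)) W i = Matrix.single a a 1 by simp [put], hA,
        pure_update_add, hu, hu]
      congr 2
      funext l
      rcases eq_or_ne l i with rfl | hl
      · simp [put, hi]
      · simp [put, hl]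
    have hcP' : conjMat (sgl i s) P' = P' + pureTensor (put C (Matrix.single b b 1) (Function.update W' i E)) := by
      rw [conj_sgl_pure, show put (insert i C) (Matrix.single b b (1 : F)) W' i = Matrix.single b b 1 by simp [put], hB,
        pure_update_add, hu, hu]
      congr 2
      funext l
      rcases eq_or_ne l i with rfl | hl
      · simp [put, hi]
      · simp [put, hl]
    have h1 := h.diff (hG.base i s (tvS_mem hd _ _)) ?_ ?_
    rotate_left
    · simp only [add_mul, mul_add, smul_mul_smul_comm, P, P']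
      rw [hprod _ _ (hslot _ _) (hslot _ _), hprod _ _ (hslot _ _) ((hslot _ _).trans hWW.symm),
        hprod _ _ ((hslot _ _).trans hWW.symm) (hslot _ _), hprod _ _ ((hslot _ _).trans hWW.symm) ((hslot _ _).trans hWW.symm)]
      simp
    · have e1 : ∀ Z, put C Z (Function.update W i (-E)) d = W d := fun Z => by simp [put, hdi, hdC']
      have e2 : ∀ Z, put C Z (Function.update W' i E) d = W d := fun Z => by simp [put, hdi, hdC', hWW]
      rw [map_add, map_smul, map_smul, hcP, hcP']
      simp only [smul_add, add_mul, mul_add, smul_mul_smul_comm, P, P']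
      rw [hprod _ _ (hslot _ _) (hslot _ _), hprod _ _ (hslot _ _) ((hslot _ _).trans hWW.symm),
        hprod _ _ ((hslot _ _).trans hWW.symm) (hslot _ _), hprod _ _ ((hslot _ _).trans hWW.symm) ((hslot _ _).trans hWW.symm),
        hprod _ _ (e1 _) (hslot _ _), hprod _ _ (e1 _) ((hslot _ _).trans hWW.symm),
        hprod _ _ (e2 _) (hslot _ _), hprod _ _ (e2 _) ((hslot _ _).trans hWW.symm)]
      simp
    have e : conjMat (sgl i s) (x • P + y • P') - (x • P + y • P') =
        (-x) • pureTensor (put C (Matrix.single a a 1) (Function.update W i E)) +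
          y • pureTensor (put C (Matrix.single b b 1) (Function.update W' i E)) := by
      have hn : pureTensor (put C (Matrix.single a a 1) (Function.update W i (-E))) =
          (-1 : F) • pureTensor (put C (Matrix.single a a 1) (Function.update W i E)) := by
        rw [← hu, ← hu, ← pure_update_smul]
        congr 1
        funext l
        rcases eq_or_ne l i with rfl | hl
        · simp [put, hi]
        · simp [put, hl]
      rw [map_add, map_smul, map_smul, hcP, hcP', hn]
      module
    rw [e] at h1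
    have h2 := ih _ _ _ _ hdC' (by simp [hdi, hWW]) (by simpa [hdi] using hsq) h1
    have e2 : ∀ W : Fin t → Matrix (Fin k) (Fin k) F, put C E (Function.update W i E) = put (insert i C) E W :=
      fun W => funext fun l => by
        rcases eq_or_ne l i with rfl | hl
        · simp [put, hi]
        · simp [put, hl]
    rw [e2, e2] at h2
    convert h2 using 3
    rw [Finset.card_insert_of_notMem hi, pow_succ]
    ring

omit hd hf

/-- the products of a slot are both projectors -/
def Corner (a b : Fin k) (X Y : Matrix (Fin k) (Fin k) F) : Prop :=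
  ∃ x y : F, x ≠ 0 ∧ y ≠ 0 ∧ X * Y = x • Matrix.single a a 1 ∧ Y * X = y • Matrix.single b b 1

/-- the products of a slot are multiples of one conjugate of a pattern value -/
def Plain (J : Matrix (Fin k) (Fin k) F) (a b : Fin k) (f : Fin k → F) (X Y : Matrix (Fin k) (Fin k) F) (w : Fin 3) : Prop :=
  ∃ (W : Matrix (Fin k) (Fin k) F) (x y r : F), x ≠ 0 ∧ y ≠ 0 ∧ r ≠ 0 ∧ X * Y = x • W ∧ Y * X = y • W ∧
    ∃ h ∈ Sl J, conjMat h W = r • sm J a b f w

include hd hf

/-- the commutator of a displacement and a conjugate -/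
theorem combine (hG : Over J Q G) {X Y : Fin t → Matrix (Fin k) (Fin k) F} {T' : Fin t → Fin 3} {c c' : F} (hc : c ≠ 0)
    (hc' : c' ≠ 0) (hX : Mem G (c • pureTensor X)) (hY : Mem G (c' • pureTensor Y)) {j : Fin t}
    (hXX : ∃ i, X i * X i = 0) (hYY : ∃ i, Y i * Y i = 0) (hXYX : ∃ i, X i * Y i * X i = 0)
    (hYXY : ∃ i, Y i * X i * Y i = 0) (hslot : ∀ i, i ≠ j → (T' i = 1 ∧ Corner a b (X i) (Y i)) ∨ Plain J a b f (X i) (Y i) (T' i))
    {d : Fin t} (hdj : d ≠ j) (hdT : T' d ≠ 0) (hdP : Plain J a b f (X d) (Y d) (T' d)) :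
    ∃ α β : F, α ≠ 0 ∧ β ≠ 0 ∧
      Mem G (pureTensor (Function.update (fun i => sm J a b f (T' i)) j (α • (X j * Y j) + β • (Y j * X j)))) := by
  classical
  set C := Finset.univ.filter fun i => i ≠ j ∧ i ≠ d ∧ T' i = 1 ∧ Corner a b (X i) (Y i)
  set Uj := X j * Y j
  set Uj' := Y j * X j
  have hchoice : ∀ i, ∃ (W : Matrix (Fin k) (Fin k) F) (x y r : F) (h : GL (Fin k) F), x ≠ 0 ∧ y ≠ 0 ∧ r ≠ 0 ∧ h ∈ Sl J ∧
      (i ∈ C → X i * Y i = x • Matrix.single a a 1 ∧ Y i * X i = y • Matrix.single b b 1 ∧ h = 1 ∧ r = 1) ∧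
      (i ∉ C → i ≠ j → X i * Y i = x • W ∧ Y i * X i = y • W ∧ conjMat h W = r • sm J a b f (T' i)) ∧
      (i = j → x = 1 ∧ y = 1 ∧ h = 1 ∧ r = 1) := by
    intro i
    by_cases hi : i ∈ C
    · obtain ⟨hij, -, -, x, y, hx, hy, e1, e2⟩ : i ≠ j ∧ i ≠ d ∧ T' i = 1 ∧ Corner a b (X i) (Y i) := by simpa [C] using hi
      exact ⟨0, x, y, 1, 1, hx, hy, one_ne_zero, one_mem _, fun _ => ⟨e1, e2, rfl, rfl⟩, fun h => absurd hi h,
        fun h => absurd h hij⟩
    by_cases hij : i = j
    · exact ⟨0, 1, 1, 1, 1, one_ne_zero, one_ne_zero, one_ne_zero, one_mem _, fun h => absurd h hi,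
        fun _ h => absurd hij h, fun _ => ⟨rfl, rfl, rfl, rfl⟩⟩
    obtain ⟨W, x, y, r, hx, hy, hr, e1, e2, h, hh, e3⟩ : Plain J a b f (X i) (Y i) (T' i) := by
      rcases eq_or_ne i d with rfl | hid
      · exact hdP
      · exact (hslot i hij).resolve_left fun h => hi (by simp [C, hij, hid, h.1, h.2])
    exact ⟨W, x, y, r, h, hx, hy, hr, hh, fun h => absurd h hi, fun _ _ => ⟨e1, e2, e3⟩, fun h => absurd h hij⟩
  choose W x y r h hx hy hr hh hC hP hj using hchoice
  have hdC : d ∉ C := by simp [C]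
  have hjC : j ∉ C := by simp [C]
  have hWd : W d * W d = 0 := by
    refine (conjMat (h d)).injective ?_
    rw [map_mul, (hP d hdC hdj).2.2, smul_mul_smul_comm, sm_sq hd hf hdT, smul_zero, map_zero]
  have e1 : pureTensor X * pureTensor Y = (∏ i, x i) • pureTensor (put C (Matrix.single a a 1) (Function.update W j Uj)) := by
    rw [← map_mul, ← pure_smul_slot]
    congr 1
    funext i
    by_cases hi : i ∈ C
    · simp [put, hi, (hC i hi).1]
    rcases eq_or_ne i j with rfl | hij
    · simp [put, hi, (hj i rfl).1, Uj]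
    · simp [put, hi, hij, (hP i hi hij).1]
  have e2 : pureTensor Y * pureTensor X = (∏ i, y i) • pureTensor (put C (Matrix.single b b 1) (Function.update W j Uj')) := by
    rw [← map_mul, ← pure_smul_slot]
    congr 1
    funext i
    by_cases hi : i ∈ C
    · simp [put, hi, (hC i hi).2.1]
    rcases eq_or_ne i j with rfl | hij
    · simp [put, hi, (hj i rfl).2.1, Uj']
    · simp [put, hi, hij, (hP i hi hij).2.1]
  obtain ⟨i1, hi1⟩ := hXX
  obtain ⟨i2, hi2⟩ := hYY
  obtain ⟨i3, hi3⟩ := hXYX
  obtain ⟨i4, hi4⟩ := hYXY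
  have h1 := hX.comm hY (by rw [smul_mul_smul_comm, pure_mul_zero (d := i1) hi1, smul_zero])
    (by rw [smul_mul_smul_comm, pure_mul_zero (d := i2) hi2, smul_zero])
    (by rw [smul_mul_smul_comm, smul_mul_smul_comm, ← map_mul, ← map_mul, pure_zero _ i3 hi3, smul_zero])
    (by rw [smul_mul_smul_comm, smul_mul_smul_comm, ← map_mul, ← map_mul, pure_zero _ i4 hi4, smul_zero])
  rw [smul_mul_smul_comm, smul_mul_smul_comm, e1, e2, smul_smul, smul_smul, sub_eq_add_neg, ← neg_smul] at h1
  have h2 := mix hd hf hG C _ _ _ _ hdC (by simp [hdj]) (by simpa [hdj] using hWd) h1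
  have h3 := h2.conj (hG.pure_mem hh)
  set T := fun i => sm J a b f (T' i)
  have e3 : ∀ U, conjMat (pureGL h) (pureTensor (put C (Matrix.single a b 1) (Function.update W j U))) =
      (∏ i, r i) • pureTensor (Function.update T j U) := by
    intro U
    rw [conj_pure_pureT, ← pure_smul_slot]
    congr 1
    funext i
    by_cases hi : i ∈ C
    · obtain ⟨hij, -, hT1, -⟩ : i ≠ j ∧ i ≠ d ∧ T' i = 1 ∧ Corner a b (X i) (Y i) := by simpa [C] using hi
      simp [put, hi, hij, (hC i hi).2.2.1, (hC i hi).2.2.2, T, hT1, sm, conjMat_apply]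
    rcases eq_or_ne i j with rfl | hij
    · simp [put, hi, (hj i rfl).2.2.1, (hj i rfl).2.2.2, conjMat_apply]
    · simp [put, hi, hij, (hP i hi hij).2.2, T]
  rw [map_add, map_smul, map_smul, e3, e3, smul_smul, smul_smul, ← pure_update_smul, ← pure_update_smul,
    ← pure_update_add] at h3
  have hPx : ∏ i, x i ≠ 0 := Finset.prod_ne_zero_iff.2 fun i _ => hx i
  have hPy : ∏ i, y i ≠ 0 := Finset.prod_ne_zero_iff.2 fun i _ => hy i
  have hPr : ∏ i, r i ≠ 0 := Finset.prod_ne_zero_iff.2 fun i _ => hr i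
  refine ⟨_, _, ?_, ?_, h3⟩
  · exact mul_ne_zero (mul_ne_zero (pow_ne_zero _ (neg_ne_zero.2 one_ne_zero)) (mul_ne_zero (mul_ne_zero hc hc') hPx)) hPr
  · exact mul_ne_zero (neg_ne_zero.2 (mul_ne_zero (mul_ne_zero hc' hc) hPy)) hPr

end Cfsg.Agent.TensorWreath.Op
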