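import Cfsg.Agent.Lib.Forms.Max.TensorWreath.Symp.Engine
import Cfsg.Agent.Lib.Forms.Max.Tensor.OmegaRadical

/-!
# Quadratic forms polarising to a tensor power of a symplectic form
-/

set_option autoImplicit false
set_option linter.unusedSectionVars false

namespace Cfsg.Agent.TensorWreath.Op

open scoped commutatorElement
open Matrix Cfsg.Agent.Aschbacher Cfsg.Agent.Forms.Max Cfsg.Agent.Forms.Max.SympTools Cfsg.Agent.TensorWreath.Sy

variable {F : Type*} [Field F] [Fintype F] {k t : ℕ} {J : Matrix (Fin k) (Fin k) F} {a b : Fin k}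

/-- isometries are products of transvections -/
theorem mem_tvGroup {h : (Fin k → F) → (Fin k → F) → F} (hh : Symp h) (U : Submodule F (Fin k → F)) :
    ∀ {g : GL (Fin k) F}, (∀ x y, h (g.val *ᵥ x) (g.val *ᵥ y) = h x y) → (∀ x ∈ U, g.val *ᵥ x = x) →
      g ∈ tvGroup h := by
  induction U using WellFoundedGT.induction with
  | _ U ih =>
    intro g hg hU
    by_cases hT : U = ⊤
    · rw [show g = 1 from gl_ext fun x => by rw [hU x (hT ▸ Submodule.mem_top), Units.val_one, one_mulVec]]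
      exact one_mem _
    obtain ⟨x, -, hx⟩ := SetLike.exists_of_lt (lt_top_iff_ne_top.2 hT)
    have hlt : U < U ⊔ Submodule.span F {x} := lt_of_le_of_ne le_sup_left fun e =>
      hx (e ▸ Submodule.mem_sup_right (Submodule.mem_span_singleton_self x))
    have hgx : g.val *ᵥ x ∉ U := fun hm => hx (by
      have h1 := hU _ hm
      rwa [mulVec_inj g h1] at hm)
    -- moving the image back
    suffices ∃ w ∈ tvGroup h, (∀ u ∈ U, w.val *ᵥ u = u) ∧ w.val *ᵥ x = g.val *ᵥ x by
      obtain ⟨w, hw, hwU, hwx⟩ := this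
      have h1 := ih _ hlt (g := w⁻¹ * g) (fun y z => by
        rw [mulVec_mul_GL, mulVec_mul_GL, group_isometry hh (inv_mem hw), hg]) (fun y hy => by
        obtain ⟨u, hu, v, hv, rfl⟩ := Submodule.mem_sup.1 hy
        obtain ⟨c, rfl⟩ := Submodule.mem_span_singleton.1 hv
        refine mulVec_inj w ?_
        rw [mulVec_mul_GL, mulVec_inv_cancel, mulVec_add, mulVec_add, hU u hu, hwU u hu, mulVec_smul, mulVec_smul, hwx])
      have := mul_mem hw h1
      rwa [mul_inv_cancel_left] at this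
    have step : ∀ p q, (∀ u ∈ U, h u (q - p) = 0) → h p q ≠ 0 →
        ∃ w ∈ tvGroup h, (∀ u ∈ U, w.val *ᵥ u = u) ∧ w.val *ᵥ p = q := by
      intro p q hperp hpq
      obtain ⟨w, hw, hwx⟩ := exists_tv hh (q - p) (h p q)⁻¹
      refine ⟨w, Subgroup.subset_closure hw, fun u hu => by rw [hwx, hperp u hu, mul_zero, zero_smul, add_zero], ?_⟩
      rw [hwx, sub_right hh, hh.alt, sub_zero, inv_mul_cancel₀ hpq, one_smul, add_sub_cancel]
    have hperp : ∀ u ∈ U, h u (g.val *ᵥ x - x) = 0 := fun u hu => by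
      rw [sub_right hh]
      conv_lhs => arg 1; arg 1; rw [← hU u hu]
      rw [hg, sub_self]
    by_cases hne : h x (g.val *ᵥ x) = 0
    swap
    · exact step x _ hperp hne
    obtain ⟨z1, hz1, e1⟩ := exists_value hh hx
    obtain ⟨z2, hz2, e2⟩ := exists_value hh hgx
    obtain ⟨z, hz, n1, n2⟩ : ∃ z, (∀ u ∈ U, h z u = 0) ∧ h z x ≠ 0 ∧ h z (g.val *ᵥ x) ≠ 0 := by
      by_cases c1 : h z1 (g.val *ᵥ x) = 0
      · by_cases c2 : h z2 x = 0
        · exact ⟨z1 + z2, fun u hu => by rw [hh.add, hz1 u hu, hz2 u hu, add_zero],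
            by rw [hh.add, e1, c2, add_zero]; exact one_ne_zero, by rw [hh.add, c1, e2, zero_add]; exact one_ne_zero⟩
        · exact ⟨z2, hz2, c2, by rw [e2]; exact one_ne_zero⟩
      · exact ⟨z1, hz1, by rw [e1]; exact one_ne_zero, c1⟩
    obtain ⟨w1, hw1, hf1, m1⟩ := step x (x + z) (fun u hu => by
      rw [add_sub_cancel_left, hh.skew, hz u hu, neg_zero]) (by
      rw [add_right hh, hh.alt, zero_add, hh.skew]; exact neg_ne_zero.2 n1)
    obtain ⟨w2, hw2, hf2, m2⟩ := step (x + z) (g.val *ᵥ x) (fun u hu => by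
      rw [show g.val *ᵥ x - (x + z) = (g.val *ᵥ x - x) - z by abel, sub_right hh, hperp u hu, hh.skew u z, hz u hu,
        neg_zero, sub_zero]) (by rw [hh.add, hne, zero_add]; exact n2)
    exact ⟨w2 * w1, mul_mem hw2 hw1, fun u hu => by rw [mulVec_mul_GL, hf1 u hu, hf2 u hu],
      by rw [mulVec_mul_GL, m1, m2]⟩

/-- a quadratic form polarising to the tensor power, vanishing on pure vectors -/
structure Quad (J : Matrix (Fin k) (Fin k) F) (Q : QuadraticForm F ((Fin t → Fin k) → F)) : Prop where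
  nd : (QuadraticMap.polarBilin Q).Nondegenerate
  pol : ∀ x y, QuadraticMap.polar Q x y = x ⬝ᵥ (Sy.gram t J *ᵥ y)
  pure : ∀ u, Q (pvec u) = 0

theorem pvec_single (y : Fin t → Fin k) : (Pi.single y 1 : (Fin t → Fin k) → F) = pvec fun i => Pi.single (y i) 1 := by
  funext x
  by_cases h : x = y
  · subst h; simp [pvec]
  · obtain ⟨i, hi⟩ := Function.ne_iff.1 h
    rw [Pi.single_eq_of_ne h, pvec]
    exact (Finset.prod_eq_zero (Finset.mem_univ i) (Pi.single_eq_of_ne hi _)).symm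

theorem pol_pvec {Q : QuadraticForm F ((Fin t → Fin k) → F)} (hQ : Quad J Q) (u w : Fin t → Fin k → F) :
    QuadraticMap.polar Q (pvec u) (pvec w) = ∏ i, frm J (u i) (w i) := by
  rw [hQ.pol, Sy.gram, pure_mulVec_pvec, pvec_dot]
  rfl

theorem perm_mulVec (π : Equiv.Perm (Fin t)) (u : Fin t → Fin k → F) :
    (permGL π : GL (Fin t → Fin k) F).val *ᵥ pvec u = pvec fun i => u (π.symm i) := by
  have := nf_mulVec_pvec π (fun _ => (1 : GL (Fin k) F)) u
  rw [show (fun _ : Fin t => (1 : GL (Fin k) F)) = 1 from rfl, pureGL_one, mul_one] at this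
  rw [this]
  congr 1
  funext i
  simp

theorem sgl_mulVec (j : Fin t) (h : GL (Fin k) F) (u : Fin t → Fin k → F) :
    (sgl j h).val *ᵥ pvec u = pvec (Function.update u j (h.val *ᵥ u j)) := by
  rw [sgl_coe, slotHom_apply, pure_mulVec_pvec]
  congr 1
  funext i
  rcases eq_or_ne i j with rfl | hi
  · simp
  · simp [Pi.mulSingle_eq_of_ne hi, Function.update_of_ne hi]

variable {Q : QuadraticForm F ((Fin t → Fin k) → F)}

/-- isometries of the bilinear form respecting pure singularity preserve the quadratic form -/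
theorem quad_of_iso (hQ : Quad J Q) {g : GL (Fin t → Fin k) F} (hg : g ∈ Iso J t)
    (h0 : ∀ u, Q (g.val *ᵥ pvec u) = 0) (x : (Fin t → Fin k) → F) : Q (g.val *ᵥ x) = Q x := by
  classical
  have hp : ∀ v w, QuadraticMap.polar Q (g.val *ᵥ v) (g.val *ᵥ w) = QuadraticMap.polar Q v w := fun v w => by
    rw [hQ.pol, hQ.pol]
    conv_rhs => rw [← (mem_Iso.1 hg)]
    rw [← mulVec_mulVec, ← mulVec_mulVec, dotProduct_mulVec v g.valᵀ, vecMul_transpose]
  suffices ∀ s : Finset (Fin t → Fin k), Q (g.val *ᵥ ∑ y ∈ s, x y • (Pi.single y 1 : (Fin t → Fin k) → F)) =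
      Q (∑ y ∈ s, x y • (Pi.single y 1 : (Fin t → Fin k) → F)) by
    have := this Finset.univ
    rwa [← pi_eq_sum_univ' x] at this
  intro s
  induction s using Finset.induction with
  | empty => simp
  | @insert y s hy ih =>
    rw [Finset.sum_insert hy, mulVec_add, Classical.Orth.map_add', Classical.Orth.map_add', ih, hp, mulVec_smul,
      Classical.Orth.map_smul', Classical.Orth.map_smul', pvec_single, h0, hQ.pure]

theorem quad_mem_Iso (hQ : Quad J Q) {g : GL (Fin t → Fin k) F} (hg : ∀ x, Q (g.val *ᵥ x) = Q x) : g ∈ Iso J t := by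
  have hp : ∀ v w, QuadraticMap.polar Q (g.val *ᵥ v) (g.val *ᵥ w) = QuadraticMap.polar Q v w := fun v w => by
    simp only [QuadraticMap.polar, ← mulVec_add, hg]
  rw [mem_Iso]
  ext p q
  have h1 := hp (Pi.single p 1) (Pi.single q 1)
  rw [hQ.pol, hQ.pol, dotProduct_mulVec (g.val *ᵥ _), ← vecMul_transpose g.val, vecMul_vecMul, dotProduct_mulVec,
    vecMul_vecMul, dotProduct_mulVec] at h1
  simpa [Matrix.single_one_vecMul, dotProduct_single_one] using h1

theorem sgl_quad (hQ : Quad J Q) (j : Fin t) {h : GL (Fin k) F} (hh : h ∈ Sl J) (x : (Fin t → Fin k) → F) :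
    Q ((sgl j h).val *ᵥ x) = Q x :=
  quad_of_iso hQ (sgl_iso j hh) (fun u => by rw [sgl_mulVec]; exact hQ.pure _) x

theorem perm_quad (hQ : Quad J Q) (π : Equiv.Perm (Fin t)) (x : (Fin t → Fin k) → F) :
    Q ((permGL π : GL (Fin t → Fin k) F).val *ᵥ x) = Q x :=
  quad_of_iso hQ (perm_iso π) (fun u => by rw [perm_mulVec]; exact hQ.pure _) x

theorem mem_isometry {g : GL (Fin t → Fin k) F} :
    g ∈ Cfsg.isometryGroup F ⇑Q ↔ ∀ x, Q (g.val *ᵥ x) = Q x :=
  ⟨fun h x => h x x, fun h x _ => h x⟩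

theorem omegaGL_eq : Cfsg.Geo.omegaGL ⇑Q = ⁅Cfsg.isometryGroup F ⇑Q, Cfsg.isometryGroup F ⇑Q⁆ :=
  Subgroup.map_subtype_commutator _

theorem omega_conj {w g : GL (Fin t → Fin k) F} (hw : ∀ x, Q (w.val *ᵥ x) = Q x) (hg : g ∈ Cfsg.Geo.omegaGL ⇑Q) :
    w * g * w⁻¹ ∈ Cfsg.Geo.omegaGL ⇑Q := by
  rw [omegaGL_eq] at hg ⊢
  have hw' := mem_isometry.2 hw
  induction hg using Subgroup.closure_induction with
  | mem x hx =>
    obtain ⟨p, hp, q, hq, rfl⟩ := hx
    rw [show w * ⁅p, q⁆ * w⁻¹ = ⁅w * p * w⁻¹, w * q * w⁻¹⁆ by simp only [commutatorElement_def]; group]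
    exact Subgroup.commutator_mem_commutator (mul_mem (mul_mem hw' hp) (inv_mem hw'))
      (mul_mem (mul_mem hw' hq) (inv_mem hw'))
  | one => simp
  | mul x y _ _ hx hy =>
    have := mul_mem hx hy
    rwa [show w * x * w⁻¹ * (w * y * w⁻¹) = w * (x * y) * w⁻¹ by group] at this
  | inv x _ hx =>
    have := inv_mem hx
    rwa [show (w * x * w⁻¹)⁻¹ = w * x⁻¹ * w⁻¹ by group] at this

theorem W0_quad (hQ : Quad J Q) {w : GL (Fin t → Fin k) F} (hw : w ∈ W0 J t) : ∀ x, Q (w.val *ᵥ x) = Q x := by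
  refine mem_isometry.1 ?_
  refine (Subgroup.closure_le (K := Cfsg.isometryGroup F ⇑Q)).2 ?_ hw
  rintro _ (⟨j, h, hh, rfl⟩ | ⟨π, rfl⟩)
  · exact mem_isometry.2 (sgl_quad hQ j hh)
  · exact mem_isometry.2 (perm_quad hQ π)

variable (hd : Hyp J a b)
include hd

/-- slot isometries are in the derived group -/
theorem sgl_omega (hQ : Quad J Q) (hn : 9 ≤ Fintype.card (Fin t → Fin k)) (j : Fin t) {h : GL (Fin k) F}
    (hh : h ∈ Sl J) : sgl j h ∈ Cfsg.Geo.omegaGL ⇑Q := by
  classical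
  have hg := mem_tvGroup hd.sp ⊥ hh fun x hx => by rw [(Submodule.mem_bot F).1 hx, mulVec_zero]
  suffices tvGroup (frm J) ≤ (Cfsg.Geo.omegaGL ⇑Q).comap (sgl (t := t) j) from this hg
  refine (Subgroup.closure_le _).2 ?_
  rintro s ⟨v, c, hs⟩
  have hs' : s = tvS hd v c := gl_ext fun x => by rw [hs, tvS_mulVec]
  show sgl j s ∈ Cfsg.Geo.omegaGL ⇑Q
  subst hs'
  set N := S j (Nm J v) with hN
  have himg : ∀ y, ∃ (r : F) (u : Fin t → Fin k → F), u j = v ∧
      N *ᵥ (Pi.single y 1 : (Fin t → Fin k) → F) = r • pvec u := by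
    intro y
    refine ⟨frm J (Pi.single (y j) 1) v, Function.update (fun i => Pi.single (y i) 1) j v, Function.update_self .., ?_⟩
    rw [hN, pvec_single, slotHom_apply, pure_mulVec_pvec]
    funext z
    simp only [pvec, Pi.smul_apply, smul_eq_mul]
    rw [← Finset.mul_prod_erase _ _ (Finset.mem_univ j), ← Finset.mul_prod_erase _ _ (Finset.mem_univ j),
      Pi.mulSingle_eq_same, Nm_mulVec, Function.update_self, Pi.smul_apply, smul_eq_mul, mul_assoc]
    refine congrArg _ (congrArg _ (Finset.prod_congr rfl fun i hi => ?_))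
    rw [Pi.mulSingle_eq_of_ne (Finset.ne_of_mem_erase hi), one_mulVec, Function.update_of_ne (Finset.ne_of_mem_erase hi)]
  have hperp : ∀ x z, QuadraticMap.polar Q (N *ᵥ x) (N *ᵥ z) = 0 := by
    intro x z
    rw [pi_eq_sum_univ' x, pi_eq_sum_univ' z, hQ.pol, mulVec_sum, mulVec_sum, mulVec_sum, sum_dotProduct]
    refine Finset.sum_eq_zero fun p _ => ?_
    rw [dotProduct_sum]
    refine Finset.sum_eq_zero fun q _ => ?_
    obtain ⟨r, u, hu, e⟩ := himg p
    obtain ⟨r', u', hu', e'⟩ := himg q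
    rw [mulVec_smul, mulVec_smul, e, e', mulVec_smul, mulVec_smul, dotProduct_smul, dotProduct_smul, smul_dotProduct,
      smul_dotProduct, ← hQ.pol, pol_pvec hQ, Finset.prod_eq_zero (Finset.mem_univ j) (by rw [hu, hu', hd.sp.alt])]
    simp
  have hX : ∀ x ∈ LinearMap.range N.mulVecLin, Q x = 0 := by
    rintro _ ⟨z, rfl⟩
    show Q (N *ᵥ z) = 0
    rw [pi_eq_sum_univ' z]
    suffices ∀ s : Finset (Fin t → Fin k), Q (N *ᵥ ∑ y ∈ s, z y • (Pi.single y 1 : (Fin t → Fin k) → F)) = 0 from this _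
    intro s
    induction s using Finset.induction with
    | empty => simp
    | @insert y s hy ih =>
      obtain ⟨r, u, -, e⟩ := himg y
      rw [Finset.sum_insert hy, mulVec_add, Classical.Orth.map_add', ih, hperp, mulVec_smul, e,
        Classical.Orth.map_smul', Classical.Orth.map_smul', hQ.pure]
      ring
  have hval : ∀ x, (sgl j (tvS hd v c)).val *ᵥ x = x + c • (N *ᵥ x) := fun x => by
    rw [sgl_coe, tvS_coe, map_add, map_one, map_smul, add_mulVec, one_mulVec, smul_mulVec]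
  refine Orth.omega_of_radical hQ.nd hn hX (sgl_quad hQ j (tvS_mem hd v c)) ?_ fun z _ => ?_
  · rintro _ ⟨z, rfl⟩
    show (sgl j (tvS hd v c)).val *ᵥ (N *ᵥ z) = N *ᵥ z
    rw [hval, mulVec_mulVec, hN, ← map_mul, Nm_mul_self hd, map_zero, zero_mulVec, smul_zero, add_zero]
  · rw [hval, add_sub_cancel_left]
    exact Submodule.smul_mem _ _ ⟨z, rfl⟩

omit hd

/-- containing the slot isometries and the commutators of slot permutations -/
structure Over (J : Matrix (Fin k) (Fin k) F) (Q : QuadraticForm F ((Fin t → Fin k) → F))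
    (G : Subgroup (GL (Fin t → Fin k) F)) : Prop where
  quad : Quad J Q
  le : G ≤ Cfsg.Geo.omegaGL ⇑Q
  base : BaseU J G
  comm : ∀ x y : Equiv.Perm (Fin t), permGL (x * y * x⁻¹ * y⁻¹) ∈ G

variable {G : Subgroup (GL (Fin t → Fin k) F)}

theorem Over.map (hG : Over J Q G) {g : GL (Fin t → Fin k) F} (hg : g ∈ G) (x : (Fin t → Fin k) → F) :
    Q (g.val *ᵥ x) = Q x := Orth.omegaGL_map (hG.le hg) x

theorem Over.iso (hG : Over J Q G) : G ≤ Iso J t := fun _ hg => quad_mem_Iso hG.quad (hG.map hg)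

theorem Over.pure_mem (hG : Over J Q G) {c : Fin t → GL (Fin k) F} (hc : ∀ i, c i ∈ Sl J) : pureGL c ∈ G := by
  classical
  suffices ∀ s : Finset (Fin t), pureGL (fun i => if i ∈ s then c i else 1) ∈ G by simpa using this Finset.univ
  intro s
  induction s using Finset.induction with
  | empty =>
    simp only [Finset.notMem_empty, if_false]
    rw [show (fun _ : Fin t => (1 : GL (Fin k) F)) = 1 from rfl, pureGL_one]
    exact one_mem _
  | @insert i s hi ih =>
    have e : (fun l => if l ∈ insert i s then c l else 1) = Pi.mulSingle i (c i) * fun l => if l ∈ s then c l else 1 := by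
      funext l
      rcases eq_or_ne l i with rfl | hl
      · simp [hi]
      · simp [hl, Pi.mulSingle_eq_of_ne hl]
    rw [e, ← pureGL_mul, ← sgl_eq]
    exact mul_mem (hG.base i _ (hc i)) ih

/-- conjugates by elements of the wreath group -/
theorem Over.conjSub (hG : Over J Q G) {w : GL (Fin t → Fin k) F} (hw : w ∈ W0 J t) :
    Over J Q (TensorWreath.conjSub w G) := by
  refine ⟨hG.quad, fun x hx => ?_, hG.base.conjSub hw, ?_⟩
  · have := omega_conj (W0_quad hG.quad hw) (hG.le (mem_conjSub.1 hx))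
    simpa [mul_assoc] using this
  induction hw using Subgroup.closure_induction_left generalizing G with
  | one => intro x y; rw [mem_conjSub]; simpa using hG.comm x y
  | mul_left s hs w hw ih =>
    intro x y
    rw [mem_conjSub]
    rcases hs with ⟨j, h, hh, rfl⟩ | ⟨π, rfl⟩
    · have hb : sgl j h ∈ TensorWreath.conjSub w G := hG.base.conjSub hw j h hh
      have h1 := mem_conjSub.1 (mul_mem (mul_mem (inv_mem hb) (ih hG x y)) hb)
      simpa [mul_assoc] using h1
    · have h1 := mem_conjSub.1 (ih hG (π⁻¹ * x * π) (π⁻¹ * y * π))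
      rw [show π⁻¹ * x * π * (π⁻¹ * y * π) * (π⁻¹ * x * π)⁻¹ * (π⁻¹ * y * π)⁻¹ =
        π⁻¹ * (x * y * x⁻¹ * y⁻¹) * π by group, ← permGL_mul, ← permGL_mul, ← permGL_inv] at h1
      simpa [mul_assoc] using h1
  | inv_mul_cancel s hs w hw ih =>
    intro x y
    rw [mem_conjSub]
    rcases hs with ⟨j, h, hh, rfl⟩ | ⟨π, rfl⟩
    · have hb : sgl j h ∈ TensorWreath.conjSub w G := hG.base.conjSub hw j h hh
      have h1 := mem_conjSub.1 (mul_mem (mul_mem hb (ih hG x y)) (inv_mem hb))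
      simpa [mul_assoc] using h1
    · have h1 := mem_conjSub.1 (ih hG (π * x * π⁻¹) (π * y * π⁻¹))
      rw [show π * x * π⁻¹ * (π * y * π⁻¹) * (π * x * π⁻¹)⁻¹ * (π * y * π⁻¹)⁻¹ =
        π * (x * y * x⁻¹ * y⁻¹) * π⁻¹ by group, ← permGL_mul, ← permGL_mul, ← permGL_inv] at h1
      simpa [mul_assoc] using h1

end Cfsg.Agent.TensorWreath.Op
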